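import Mathlib
set_option autoImplicit false

/-!
# Quadratic best offenders: definitions and elementary facts

`ρ : X →* MulAut V` is an action on a commutative group `V`; we look at sections `U / V₀`.
-/

namespace Cfsg.Agent.NoFF

universe u v

/-- conjugate subgroup `x A x⁻¹` -/
def cj {X : Type*} [Group X] (x : X) (A : Subgroup X) : Subgroup X := A.map (MulAut.conj x).toMonoidHom

section cjs

variable {X : Type*} [Group X]

theorem mem_cj {x g : X} {A : Subgroup X} : g ∈ cj x A ↔ x⁻¹ * g * x ∈ A := by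
  constructor
  · rintro ⟨a, ha, rfl⟩
    have : x⁻¹ * (MulAut.conj x).toMonoidHom a * x = a := by
      show x⁻¹ * (x * a * x⁻¹) * x = a
      group
    rw [this]; exact ha
  · intro h
    refine ⟨_, h, ?_⟩
    show x * (x⁻¹ * g * x) * x⁻¹ = g
    group

theorem conj_mem_cj {x g : X} {A : Subgroup X} (h : g ∈ A) : x * g * x⁻¹ ∈ cj x A :=
  ⟨g, h, rfl⟩

theorem cj_mul (x y : X) (A : Subgroup X) : cj (x * y) A = cj x (cj y A) := by
  ext g
  rw [mem_cj, mem_cj, mem_cj]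
  simp only [mul_inv_rev, mul_assoc]

theorem cj_one (A : Subgroup X) : cj 1 A = A := by
  ext g; rw [mem_cj]; simp

theorem cj_inv_cj (x : X) (A : Subgroup X) : cj x⁻¹ (cj x A) = A := by
  rw [← cj_mul, inv_mul_cancel, cj_one]

theorem cj_cj_inv (x : X) (A : Subgroup X) : cj x (cj x⁻¹ A) = A := by
  rw [← cj_mul, mul_inv_cancel, cj_one]

theorem cj_mono (x : X) {A B : Subgroup X} (h : A ≤ B) : cj x A ≤ cj x B := Subgroup.map_mono h

theorem cj_le_cj {x : X} {A B : Subgroup X} : cj x A ≤ cj x B ↔ A ≤ B := by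
  constructor
  · intro h
    have := cj_mono x⁻¹ h
    rwa [cj_inv_cj, cj_inv_cj] at this
  · exact cj_mono x

theorem cj_le_iff {x : X} {A B : Subgroup X} : cj x A ≤ B ↔ A ≤ cj x⁻¹ B := by
  rw [← cj_le_cj (x := x⁻¹), cj_inv_cj]

theorem le_cj_iff {x : X} {A B : Subgroup X} : A ≤ cj x B ↔ cj x⁻¹ A ≤ B := by
  rw [← cj_le_cj (x := x⁻¹), cj_inv_cj]

theorem card_cj (x : X) (A : Subgroup X) : Nat.card (cj x A) = Nat.card A :=
  Subgroup.card_map_of_injective (MulAut.conj x).injective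

theorem cj_isPGroup {p : ℕ} {x : X} {A : Subgroup X} (h : IsPGroup p A) : IsPGroup p (cj x A) :=
  h.map _

theorem cj_inf (x : X) (A B : Subgroup X) : cj x (A ⊓ B) = cj x A ⊓ cj x B := by
  ext g; simp only [mem_cj, Subgroup.mem_inf]

theorem cj_top (x : X) : cj x (⊤ : Subgroup X) = ⊤ := by
  ext g; simp [mem_cj]

theorem cj_of_mem {x : X} {A : Subgroup X} (h : x ∈ A) : cj x A = A := by
  ext g
  rw [mem_cj]
  constructor
  · intro hg
    have := A.mul_mem (A.mul_mem h hg) (A.inv_mem h)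
    have e : x * (x⁻¹ * g * x) * x⁻¹ = g := by group
    rwa [e] at this
  · intro hg
    exact A.mul_mem (A.mul_mem (A.inv_mem h) hg) h

theorem mem_normalizer_iff_cj {x : X} {A : Subgroup X} :
    x ∈ Subgroup.normalizer (A : Set X) ↔ cj x A = A := by
  rw [Subgroup.mem_normalizer_iff]
  constructor
  · intro h
    ext g
    rw [mem_cj]
    have := h (x⁻¹ * g * x)
    have e : x * (x⁻¹ * g * x) * x⁻¹ = g := by group
    rw [e] at this
    exact this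
  · intro h g
    constructor
    · intro hg
      rw [← h]; exact conj_mem_cj hg
    · intro hg
      have h2 : g ∈ cj x⁻¹ A := by
        rw [mem_cj, inv_inv]; exact hg
      have h3 : cj x⁻¹ A = A := by rw [← h, cj_inv_cj, h]
      rwa [h3] at h2

theorem normalizer_cj (x : X) (A : Subgroup X) :
    Subgroup.normalizer (cj x A : Set X) = cj x (Subgroup.normalizer (A : Set X)) := by
  ext g
  rw [mem_normalizer_iff_cj, mem_cj, mem_normalizer_iff_cj, cj_mul, cj_mul]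
  constructor
  · intro h
    rw [h, cj_inv_cj]
  · intro h
    have := congrArg (cj x) h
    rwa [cj_cj_inv] at this

theorem cj_sSup (x : X) (s : Set (Subgroup X)) : cj x (sSup s) = sSup (cj x '' s) := by
  unfold cj
  rw [sSup_image, sSup_eq_iSup, Subgroup.map_iSup]
  simp only [Subgroup.map_iSup]

theorem cj_sup (x : X) (A B : Subgroup X) : cj x (A ⊔ B) = cj x A ⊔ cj x B := Subgroup.map_sup _ _ _

theorem eq_cj_of_le [Finite X] {x : X} {A : Subgroup X} (h : A ≤ cj x A) : cj x A = A :=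
  (Subgroup.eq_of_le_of_card_ge h (by rw [card_cj])).symm

theorem cj_le_self_eq [Finite X] {x : X} {A : Subgroup X} (h : cj x A ≤ A) : cj x A = A :=
  Subgroup.eq_of_le_of_card_ge h (by rw [card_cj])

end cjs

/-! ### Fixed points modulo `V₀` -/

section fixs

variable {X : Type*} [Group X] {V : Type*} [CommGroup V] (ρ : X →* MulAut V) (V0 U : Subgroup V)

theorem rho_mul (x y : X) (v : V) : ρ (x * y) v = ρ x (ρ y v) := by rw [map_mul, MulAut.mul_apply]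

theorem rho_inv_self (x : X) (v : V) : ρ x⁻¹ (ρ x v) = v := by
  rw [← rho_mul, inv_mul_cancel, map_one, MulAut.one_apply]

theorem rho_self_inv (x : X) (v : V) : ρ x (ρ x⁻¹ v) = v := by
  rw [← rho_mul, mul_inv_cancel, map_one, MulAut.one_apply]

theorem rho_conj (x c : X) (v : V) : ρ x (ρ (x⁻¹ * c * x) v) = ρ c (ρ x v) := by
  rw [← rho_mul, ← rho_mul]
  congr 2
  group

/-- `C_{U/V₀}(A)`, as a subgroup of `U` -/
def fix (A : Subgroup X) : Subgroup V where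
  carrier := {v | v ∈ U ∧ ∀ a ∈ A, ρ a v * v⁻¹ ∈ V0}
  mul_mem' := by
    rintro v w ⟨hv, hv'⟩ ⟨hw, hw'⟩
    refine ⟨U.mul_mem hv hw, fun a ha => ?_⟩
    have : ρ a (v * w) * (v * w)⁻¹ = (ρ a v * v⁻¹) * (ρ a w * w⁻¹) := by
      rw [map_mul, mul_inv]; exact mul_mul_mul_comm _ _ _ _
    rw [this]
    exact V0.mul_mem (hv' a ha) (hw' a ha)
  one_mem' := ⟨U.one_mem, fun a _ => by simp [V0.one_mem]⟩
  inv_mem' := by
    rintro v ⟨hv, hv'⟩
    refine ⟨U.inv_mem hv, fun a ha => ?_⟩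
    have : ρ a v⁻¹ * v⁻¹⁻¹ = (ρ a v * v⁻¹)⁻¹ := by
      rw [map_inv, mul_inv]
    rw [this]
    exact V0.inv_mem (hv' a ha)

variable {ρ V0 U}

theorem mem_fix {A : Subgroup X} {v : V} : v ∈ fix ρ V0 U A ↔ v ∈ U ∧ ∀ a ∈ A, ρ a v * v⁻¹ ∈ V0 := Iff.rfl

theorem fix_le (A : Subgroup X) : fix ρ V0 U A ≤ U := fun _ h => h.1

theorem fix_anti {A B : Subgroup X} (h : A ≤ B) : fix ρ V0 U B ≤ fix ρ V0 U A :=
  fun _ hv => ⟨hv.1, fun a ha => hv.2 a (h ha)⟩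

theorem le_fix (hV0 : ∀ x, ∀ v ∈ V0, ρ x v ∈ V0) (h0U : V0 ≤ U) (A : Subgroup X) : V0 ≤ fix ρ V0 U A :=
  fun v hv => ⟨h0U hv, fun a _ => V0.mul_mem (hV0 a v hv) (V0.inv_mem hv)⟩

theorem fix_sup (hV0 : ∀ x, ∀ v ∈ V0, ρ x v ∈ V0) (A B : Subgroup X) :
    fix ρ V0 U (A ⊔ B) = fix ρ V0 U A ⊓ fix ρ V0 U B := by
  apply le_antisymm
  · exact le_inf (fix_anti le_sup_left) (fix_anti le_sup_right)
  · rintro v ⟨hA, hB⟩
    refine ⟨hA.1, ?_⟩
    let K : Subgroup X :=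
      { carrier := {x | ρ x v * v⁻¹ ∈ V0}
        mul_mem' := by
          intro x y hx hy
          have : ρ (x * y) v * v⁻¹ = ρ x (ρ y v * v⁻¹) * (ρ x v * v⁻¹) := by
            rw [rho_mul, map_mul, map_inv]; group
          show ρ (x * y) v * v⁻¹ ∈ V0
          rw [this]
          exact V0.mul_mem (hV0 x _ hy) hx
        one_mem' := by
          show ρ 1 v * v⁻¹ ∈ V0
          simp [V0.one_mem]
        inv_mem' := by
          intro x hx
          have : ρ x⁻¹ v * v⁻¹ = (ρ x⁻¹ (ρ x v * v⁻¹))⁻¹ := by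
            rw [map_mul, rho_inv_self, map_inv (ρ x⁻¹), mul_inv, inv_inv, mul_comm]
          show ρ x⁻¹ v * v⁻¹ ∈ V0
          rw [this]
          exact V0.inv_mem (hV0 _ _ hx) }
    have : A ⊔ B ≤ K := sup_le (fun a ha => hA.2 a ha) (fun b hb => hB.2 b hb)
    exact fun a ha => this ha

theorem conj_mem_fix (hV0 : ∀ x, ∀ v ∈ V0, ρ x v ∈ V0) {x : X} (hU : ∀ v ∈ U, ρ x v ∈ U) {A : Subgroup X} {v : V}
    (hv : v ∈ fix ρ V0 U A) : ρ x v ∈ fix ρ V0 U (cj x A) := by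
  refine ⟨hU v hv.1, fun a ha => ?_⟩
  rw [mem_cj] at ha
  have h1 := hV0 x _ (hv.2 _ ha)
  have : ρ x (ρ (x⁻¹ * a * x) v * v⁻¹) = ρ a (ρ x v) * (ρ x v)⁻¹ := by
    rw [map_mul, map_inv, rho_conj]
  rwa [this] at h1

theorem fix_cj (hV0 : ∀ x, ∀ v ∈ V0, ρ x v ∈ V0) {x : X} (hU : ∀ v ∈ U, ρ x v ∈ U)
    (hU' : ∀ v ∈ U, ρ x⁻¹ v ∈ U) (A : Subgroup X) :
    fix ρ V0 U (cj x A) = (fix ρ V0 U A).map (ρ x).toMonoidHom := by
  ext v
  constructor
  · intro h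
    refine ⟨ρ x⁻¹ v, ?_, ?_⟩
    · have := conj_mem_fix hV0 hU' h
      rwa [cj_inv_cj] at this
    · show ρ x (ρ x⁻¹ v) = v
      exact rho_self_inv ρ x v
  · rintro ⟨w, hw, rfl⟩
    exact conj_mem_fix hV0 hU hw

theorem card_fix_cj (hV0 : ∀ x, ∀ v ∈ V0, ρ x v ∈ V0) {x : X} (hU : ∀ v ∈ U, ρ x v ∈ U)
    (hU' : ∀ v ∈ U, ρ x⁻¹ v ∈ U) (A : Subgroup X) :
    Nat.card (fix ρ V0 U (cj x A)) = Nat.card (fix ρ V0 U A) := by
  rw [fix_cj hV0 hU hU']
  exact Subgroup.card_map_of_injective (ρ x).injective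

end fixs

/-! ### Quadratic best offenders -/

section offs

variable {X : Type*} [Group X] {V : Type*} [CommGroup V] (p : ℕ) (ρ : X →* MulAut V) (V0 U : Subgroup V)

/-- `A` is a nontrivial quadratic best offender on `U / V₀`. -/
structure IsQ (A : Subgroup X) : Prop where
  pg : IsPGroup p A
  quad : ∀ v ∈ U, ∀ a ∈ A, ∀ b ∈ A, ρ b (ρ a v * v⁻¹) * (ρ a v * v⁻¹)⁻¹ ∈ V0
  best : ∀ B ≤ A, Nat.card B * Nat.card (fix ρ V0 U B) ≤ Nat.card A * Nat.card (fix ρ V0 U A)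
  nt : ∃ v ∈ U, ∃ a ∈ A, ρ a v * v⁻¹ ∉ V0

/-- the subgroup of `T` generated by the nontrivial quadratic best offenders -/
def JJ (T : Subgroup X) : Subgroup X := sSup {A | A ≤ T ∧ IsQ p ρ V0 U A}

/-- no section of `U / V₀` is a natural module for a subgroup generated by two root elements -/
def NoS : Prop := ∀ (a b : X) (D : Subgroup V), V0 ≤ D → D ≤ U → (∀ v ∈ D, ρ a v ∈ D) → (∀ v ∈ D, ρ b v ∈ D) →
  ∀ u ∈ U, ∀ w ∈ U, ρ a u * u⁻¹ * w⁻¹ ∈ D → ρ a w * w⁻¹ ∈ D →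
    ρ b w * w⁻¹ * u⁻¹ ∈ D → ρ b u * u⁻¹ ∈ D → u ∈ D

variable {p ρ V0 U}

theorem IsQ.conj (hV0 : ∀ x, ∀ v ∈ V0, ρ x v ∈ V0) {x : X} (hU : ∀ v ∈ U, ρ x v ∈ U)
    (hU' : ∀ v ∈ U, ρ x⁻¹ v ∈ U) {A : Subgroup X}
    (h : IsQ p ρ V0 U A) : IsQ p ρ V0 U (cj x A) := by
  refine ⟨cj_isPGroup h.pg, ?_, ?_, ?_⟩
  · intro v hv a ha b hb
    rw [mem_cj] at ha hb
    have h1 := hV0 x _ (h.quad (ρ x⁻¹ v) (hU' _ hv) _ ha _ hb)
    rw [map_mul, map_inv (ρ x), rho_conj, map_mul, map_inv (ρ x), rho_conj, rho_self_inv] at h1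
    exact h1
  · intro B hB
    have h1 : cj x⁻¹ B ≤ A := by
      have := cj_mono x⁻¹ hB
      rwa [cj_inv_cj] at this
    have h2 := h.best _ h1
    rw [card_cj, card_fix_cj hV0 hU' (by rwa [inv_inv])] at h2
    rw [card_cj, card_fix_cj hV0 hU hU']
    exact h2
  · obtain ⟨v, hv, a, ha, hav⟩ := h.nt
    refine ⟨ρ x v, hU v hv, x * a * x⁻¹, conj_mem_cj ha, ?_⟩
    intro hcon
    apply hav
    have h1 := hV0 x⁻¹ _ hcon
    have : ρ x⁻¹ (ρ (x * a * x⁻¹) (ρ x v) * (ρ x v)⁻¹) = ρ a v * v⁻¹ := by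
      rw [map_mul, map_inv (ρ x⁻¹), rho_inv_self, ← rho_mul, ← rho_mul]
      congr 3
      group
    rwa [this] at h1

theorem cj_JJ (hV0 : ∀ x, ∀ v ∈ V0, ρ x v ∈ V0) {x : X} (hU : ∀ v ∈ U, ρ x v ∈ U)
    (hU' : ∀ v ∈ U, ρ x⁻¹ v ∈ U) (T : Subgroup X) :
    cj x (JJ p ρ V0 U T) = JJ p ρ V0 U (cj x T) := by
  unfold JJ
  rw [cj_sSup]
  congr 1
  ext A
  constructor
  · rintro ⟨B, ⟨hBT, hB⟩, rfl⟩
    exact ⟨cj_mono x hBT, hB.conj hV0 hU hU'⟩
  · rintro ⟨hA, hAQ⟩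
    refine ⟨cj x⁻¹ A, ⟨?_, hAQ.conj hV0 hU' (by rwa [inv_inv])⟩, cj_cj_inv _ _⟩
    have := cj_mono x⁻¹ hA
    rwa [cj_inv_cj] at this

theorem JJ_le (T : Subgroup X) : JJ p ρ V0 U T ≤ T := sSup_le fun _ h => h.1

theorem JJ_mono {T T' : Subgroup X} (h : T ≤ T') : JJ p ρ V0 U T ≤ JJ p ρ V0 U T' :=
  sSup_le_sSup fun _ hA => ⟨hA.1.trans h, hA.2⟩

theorem le_JJ {T A : Subgroup X} (h : A ≤ T) (hA : IsQ p ρ V0 U A) : A ≤ JJ p ρ V0 U T := le_sSup ⟨h, hA⟩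

theorem mem_normalizer_JJ (hV0 : ∀ x, ∀ v ∈ V0, ρ x v ∈ V0) {x : X} (hU : ∀ v ∈ U, ρ x v ∈ U)
    (hU' : ∀ v ∈ U, ρ x⁻¹ v ∈ U) {T : Subgroup X} (hx : x ∈ Subgroup.normalizer (T : Set X)) :
    x ∈ Subgroup.normalizer (JJ p ρ V0 U T : Set X) := by
  rw [mem_normalizer_iff_cj] at hx ⊢
  rw [cj_JJ hV0 hU hU', hx]

theorem normalizer_le_normalizer_JJ (hV0 : ∀ x, ∀ v ∈ V0, ρ x v ∈ V0) (hU : ∀ x, ∀ v ∈ U, ρ x v ∈ U)
    (T : Subgroup X) : Subgroup.normalizer (T : Set X) ≤ Subgroup.normalizer (JJ p ρ V0 U T : Set X) :=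
  fun x hx => mem_normalizer_JJ hV0 (hU x) (hU x⁻¹) hx

theorem card_sup_mul_card_inf {V : Type*} [CommGroup V] [Finite V] (A B : Subgroup V) :
    Nat.card ↥(A ⊔ B) * Nat.card ↥(A ⊓ B) = Nat.card A * Nat.card B := by
  have h1 : Nat.card B * B.relIndex (A ⊔ B) = Nat.card ↥(A ⊔ B) := by
    have := Subgroup.relIndex_mul_relIndex ⊥ B (A ⊔ B) bot_le le_sup_right
    rwa [Subgroup.relIndex_bot_left, Subgroup.relIndex_bot_left] at this
  have h2 : Nat.card ↥(A ⊓ B) * (A ⊓ B).relIndex A = Nat.card A := by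
    have := Subgroup.relIndex_mul_relIndex ⊥ (A ⊓ B) A bot_le inf_le_left
    rwa [Subgroup.relIndex_bot_left, Subgroup.relIndex_bot_left] at this
  have h3 : B.relIndex (A ⊔ B) = B.relIndex A := Subgroup.relIndex_sup_right A B
  rw [← h1, h3, ← h2, Subgroup.inf_relIndex_left]
  ring

/-- quadratic best offenders restrict to submodules -/
theorem IsQ.restrict [Finite V] {A : Subgroup X} (h : IsQ p ρ V0 U A) {U' : Subgroup V} (hU' : U' ≤ U)
    (hnt : ∃ v ∈ U', ∃ a ∈ A, ρ a v * v⁻¹ ∉ V0) : IsQ p ρ V0 U' A := by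
  refine ⟨h.pg, fun v hv => h.quad v (hU' hv), ?_, hnt⟩
  intro B hB
  have e : fix ρ V0 U' B ⊓ fix ρ V0 U A = fix ρ V0 U' A := by
    apply le_antisymm
    · rintro v ⟨h1, h2⟩
      exact ⟨h1.1, h2.2⟩
    · intro v hv
      exact ⟨fix_anti hB hv, ⟨hU' hv.1, hv.2⟩⟩
  have h1 := card_sup_mul_card_inf (fix ρ V0 U' B) (fix ρ V0 U A)
  rw [e] at h1
  have h2 : fix ρ V0 U' B ⊔ fix ρ V0 U A ≤ fix ρ V0 U B :=
    sup_le (fun v hv => ⟨hU' hv.1, hv.2⟩) (fix_anti hB)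
  have h3 : Nat.card ↥(fix ρ V0 U' B ⊔ fix ρ V0 U A) ≤ Nat.card (fix ρ V0 U B) := Subgroup.card_le_of_le h2
  have h4 := h.best B hB
  have hpos : 0 < Nat.card (fix ρ V0 U A) := Nat.card_pos
  have hpos2 : 0 < Nat.card (fix ρ V0 U' A) := Nat.card_pos
  have h5 : Nat.card B * Nat.card (fix ρ V0 U' B) * Nat.card (fix ρ V0 U A) ≤
      Nat.card A * Nat.card (fix ρ V0 U' A) * Nat.card (fix ρ V0 U A) := by
    calc Nat.card B * Nat.card (fix ρ V0 U' B) * Nat.card (fix ρ V0 U A)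
        = Nat.card B * (Nat.card ↥(fix ρ V0 U' B ⊔ fix ρ V0 U A) * Nat.card (fix ρ V0 U' A)) := by
          rw [h1]; ring
      _ ≤ Nat.card B * (Nat.card (fix ρ V0 U B) * Nat.card (fix ρ V0 U' A)) := by gcongr
      _ = Nat.card B * Nat.card (fix ρ V0 U B) * Nat.card (fix ρ V0 U' A) := by ring
      _ ≤ Nat.card A * Nat.card (fix ρ V0 U A) * Nat.card (fix ρ V0 U' A) := by gcongr
      _ = _ := by ring
  exact Nat.le_of_mul_le_mul_right h5 hpos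

end offs

end Cfsg.Agent.NoFF
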