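import Cfsg.Agent.NoFF.Core
set_option autoImplicit false
set_option linter.unusedSectionVars false

/-!
# Existence of quadratic best offenders (Thompson, Timmesfeld)
-/

namespace Cfsg.Agent.NoFF

universe u v

variable {X : Type u} [Group X] [Finite X] {V : Type v} [CommGroup V] [Finite V] {p : ℕ} [hp : Fact p.Prime]

/-- the elements of `A` centralizing all commutators `[v, a]`, `a ∈ A`, modulo `V₀` -/
def centComm (ρ : X →* MulAut V) (V0 : Subgroup V) (hV0 : ∀ x, ∀ v ∈ V0, ρ x v ∈ V0) (A : Subgroup X) (v : V) :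
    Subgroup X :=
  A ⊓ actKer ρ V0 (Subgroup.closure {w | ∃ a ∈ A, w = ρ a v * v⁻¹}) hV0

theorem mem_centComm {ρ : X →* MulAut V} {V0 : Subgroup V} {hV0 : ∀ x, ∀ v ∈ V0, ρ x v ∈ V0} {A : Subgroup X}
    {v : V} {b : X} : b ∈ centComm ρ V0 hV0 A v ↔ b ∈ A ∧ ∀ a ∈ A, ρ b (ρ a v * v⁻¹) * (ρ a v * v⁻¹)⁻¹ ∈ V0 := by
  constructor
  · rintro ⟨h1, h2⟩
    exact ⟨h1, fun a ha => h2 _ (Subgroup.subset_closure ⟨a, ha, rfl⟩)⟩
  · rintro ⟨h1, h2⟩
    refine ⟨h1, ?_⟩
    intro w hw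
    have : Subgroup.closure {w | ∃ a ∈ A, w = ρ a v * v⁻¹} ≤ fix ρ V0 ⊤ (Subgroup.zpowers b) := by
      rw [Subgroup.closure_le]
      rintro _ ⟨a, ha, rfl⟩
      refine ⟨trivial, ?_⟩
      have h3 : Subgroup.zpowers b ≤ actKer ρ V0 (Subgroup.zpowers (ρ a v * v⁻¹)) hV0 := by
        rw [Subgroup.zpowers_le]
        rintro _ ⟨n, rfl⟩
        simp only
        rw [map_zpow, ← inv_zpow, ← mul_zpow]
        exact V0.zpow_mem (h2 a ha) n
      exact fun g hg => h3 hg _ (Subgroup.mem_zpowers _)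
    exact (this hw).2 b (Subgroup.mem_zpowers b)

theorem comm4' {V : Type*} [CommGroup V] (a b c d : V) :
    (a * b⁻¹) * (c * d⁻¹)⁻¹ = (a * c⁻¹) * (b * d⁻¹)⁻¹ := by
  have h : ∀ a b c d : Additive V, (a + -b) + -(c + -d) = (a + -c) + -(b + -d) := fun _ _ _ _ => by abel
  exact congrArg Additive.toMul (h (.ofMul a) (.ofMul b) (.ofMul c) (.ofMul d))

/-- Thompson's counting lemma -/
theorem key_inj {ρ : X →* MulAut V} {V0 U : Subgroup V} {hV0 : ∀ x, ∀ v ∈ V0, ρ x v ∈ V0} {A : Subgroup X}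
    (hAc : ∀ a ∈ A, ∀ b ∈ A, a * b = b * a) {v : V} {a a' : X} (ha : a ∈ A) (ha' : a' ∈ A)
    (h : (ρ a v * v⁻¹) * (ρ a' v * v⁻¹)⁻¹ ∈ fix ρ V0 U A) : a'⁻¹ * a ∈ centComm ρ V0 hV0 A v := by
  rw [mem_centComm]
  refine ⟨A.mul_mem (A.inv_mem ha') ha, fun c hc => ?_⟩
  have h1 := h.2 c hc
  have h2 : (ρ a v * v⁻¹) * (ρ a' v * v⁻¹)⁻¹ = ρ a v * (ρ a' v)⁻¹ := by
    rw [mul_inv, inv_inv]
    rw [mul_comm (ρ a' v)⁻¹ v, mul_assoc, inv_mul_cancel_left]
  rw [h2, map_mul, map_inv (ρ c), ← rho_mul, ← rho_mul, hAc c hc a ha, hAc c hc a' ha', rho_mul, rho_mul] at h1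
  -- `ρ a (ρ c v) * (ρ a' (ρ c v))⁻¹ * (ρ a v * (ρ a' v)⁻¹)⁻¹`
  rw [comm4'] at h1
  have h3 := hV0 a'⁻¹ _ h1
  rw [map_mul, map_mul, map_inv (ρ a'⁻¹), map_inv (ρ a'⁻¹), map_mul, map_inv (ρ a'⁻¹), rho_inv_self, rho_inv_self,
    ← rho_mul, ← rho_mul] at h3
  rw [map_mul, map_inv (ρ (a'⁻¹ * a))]
  simp only [rho_mul] at h3 ⊢
  exact h3

theorem card_le_of_key {ρ : X →* MulAut V} {V0 U : Subgroup V} (hV0 : ∀ x, ∀ v ∈ V0, ρ x v ∈ V0) {A : Subgroup X}
    (hAc : ∀ a ∈ A, ∀ b ∈ A, a * b = b * a) (v : V) :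
    Nat.card A ≤ Nat.card (centComm ρ V0 hV0 A v) *
      Set.ncard (Set.range fun a : A => (QuotientGroup.mk (ρ (a : X) v * v⁻¹) : V ⧸ fix ρ V0 U A)) := by
  classical
  have := Fintype.ofFinite A
  have := Fintype.ofFinite (V ⧸ fix ρ V0 U A)
  let f : A → V ⧸ fix ρ V0 U A := fun a => (QuotientGroup.mk (ρ (a : X) v * v⁻¹) : V ⧸ fix ρ V0 U A)
  have h1 := Finset.card_le_mul_card_image (f := f) Finset.univ (Nat.card (centComm ρ V0 hV0 A v)) (by
    intro y hy
    obtain ⟨a0, -, ha0⟩ := Finset.mem_image.mp hy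
    have : ((Finset.univ.filter fun x => f x = y).card) = Nat.card {x : A // f x = y} := by
      rw [Nat.card_eq_fintype_card, Fintype.card_subtype]
    rw [this]
    refine Nat.card_le_card_of_injective
      (fun x : {x : A // f x = y} => (⟨(a0 : X)⁻¹ * (x.1 : X), ?_⟩ : centComm ρ V0 hV0 A v)) ?_
    · have hx : f x.1 = f a0 := x.2.trans ha0.symm
      apply key_inj (U := U) hAc x.1.2 a0.2
      have h2 := QuotientGroup.eq.mp hx.symm
      rw [mul_comm]
      exact h2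
    · intro x x' hxx
      have := congrArg Subtype.val hxx
      simp only at this
      exact Subtype.ext (Subtype.ext (mul_left_cancel this)))
  have h2 : (Finset.univ.image f).card = Set.ncard (Set.range f) := by
    rw [← Set.ncard_coe_finset, Finset.coe_image, Finset.coe_univ, Set.image_univ]
  rw [Finset.card_univ, ← Nat.card_eq_fintype_card, h2] at h1
  exact h1

/-- quotient cardinalities -/
theorem card_map_mk {F W : Subgroup V} (h : F ≤ W) : Nat.card (W.map (QuotientGroup.mk' F)) * Nat.card F = Nat.card W := by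
  have e : F.subgroupOf W = ((QuotientGroup.mk' F).comp W.subtype).ker := by
    ext g
    rw [MonoidHom.mem_ker, Subgroup.mem_subgroupOf]
    exact (QuotientGroup.eq_one_iff _).symm
  have e2 : Nat.card (W.map (QuotientGroup.mk' F)) = (F.subgroupOf W).index := by
    rw [e, Subgroup.index_ker, MonoidHom.range_comp, Subgroup.range_subtype]
  have e3 : Nat.card (F.subgroupOf W) = Nat.card F :=
    Nat.card_congr (Subgroup.subgroupOfEquivOfLe h).toEquiv
  rw [e2, ← e3, mul_comm]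
  exact Subgroup.card_mul_index _

/-- **Existence of a quadratic best offender.** -/
theorem exists_isQ {ρ : X →* MulAut V} {V0 U : Subgroup V} (hV0 : ∀ x, ∀ v ∈ V0, ρ x v ∈ V0)
    (hU : ∀ x, ∀ v ∈ U, ρ x v ∈ U) (hexp : ∀ v ∈ U, v ^ p ∈ V0)
    {A : Subgroup X} (hAp : IsPGroup p A) (hAc : ∀ a ∈ A, ∀ b ∈ A, a * b = b * a)
    (hnt : ∃ v ∈ U, ∃ a ∈ A, ρ a v * v⁻¹ ∉ V0)
    (hoff : Nat.card ↥(A ⊓ actKer ρ V0 U hV0) * Nat.card U ≤ Nat.card A * Nat.card (fix ρ V0 U A)) :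
    ∃ A' ≤ A, IsQ p ρ V0 U A' := by
  classical
  let m : Subgroup X → ℕ := fun B => Nat.card B * Nat.card (fix ρ V0 U B)
  have htriv : ∀ B : Subgroup X, (∀ v ∈ U, ∀ a ∈ B, ρ a v * v⁻¹ ∈ V0) → fix ρ V0 U B = U := fun B hB =>
    le_antisymm (fix_le _) fun v hv => ⟨hv, fun a ha => hB v hv a ha⟩
  -- the maximum
  obtain ⟨B0, hB0, hmax⟩ := Set.exists_max_image {B : Subgroup X | B ≤ A} m (Set.toFinite _) ⟨A, (le_rfl : A ≤ A)⟩
  have hex : ∃ B ≤ A, m B = m B0 ∧ ∃ v ∈ U, ∃ a ∈ B, ρ a v * v⁻¹ ∉ V0 := by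
    by_cases h : ∃ v ∈ U, ∃ a ∈ B0, ρ a v * v⁻¹ ∉ V0
    · exact ⟨B0, hB0, rfl, h⟩
    · push Not at h
      refine ⟨A, le_rfl, le_antisymm (hmax A (le_rfl : A ≤ A)) ?_, hnt⟩
      show Nat.card B0 * Nat.card (fix ρ V0 U B0) ≤ Nat.card A * Nat.card (fix ρ V0 U A)
      rw [htriv B0 h]
      refine le_trans ?_ hoff
      apply Nat.mul_le_mul_right
      exact Subgroup.card_le_of_le (le_inf hB0 fun a ha v hv => h v hv a ha)
  obtain ⟨A', ⟨h1, h2, h3⟩, hmin⟩ := Set.exists_min_image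
    {B : Subgroup X | B ≤ A ∧ m B = m B0 ∧ ∃ v ∈ U, ∃ a ∈ B, ρ a v * v⁻¹ ∉ V0} (fun B => Nat.card B) (Set.toFinite _)
    (by obtain ⟨B, hB⟩ := hex; exact ⟨B, hB⟩)
  refine ⟨A', h1, hAp.to_le h1, ?_, ?_, h3⟩
  · -- quadratic
    intro v hv
    have hAc' : ∀ a ∈ A', ∀ b ∈ A', a * b = b * a := fun a ha b hb => hAc a (h1 ha) b (h1 hb)
    have hBA : centComm ρ V0 hV0 A' v ≤ A' := inf_le_left
    by_cases hB : centComm ρ V0 hV0 A' v = A'
    · intro a ha b hb
      rw [← hB, mem_centComm] at hb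
      exact hb.2 a ha
    exfalso
    set B := centComm ρ V0 hV0 A' v with hBdef
    have hcount := card_le_of_key (U := U) hV0 hAc' v
    rw [← hBdef] at hcount
    set R := Set.range fun a : A' => (QuotientGroup.mk (ρ (a : X) v * v⁻¹) : V ⧸ fix ρ V0 U A') with hR
    -- the commutators are in `fix B`
    have hRB : R ⊆ ((fix ρ V0 U B).map (QuotientGroup.mk' (fix ρ V0 U A')) : Set (V ⧸ fix ρ V0 U A')) := by
      rintro _ ⟨a, rfl⟩
      refine ⟨ρ (a : X) v * v⁻¹, ⟨U.mul_mem (hU _ v hv) (U.inv_mem hv), fun b hb => ?_⟩, rfl⟩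
      exact (mem_centComm.mp hb).2 a a.2
    have hRn : R.ncard ≤ Nat.card ((fix ρ V0 U B).map (QuotientGroup.mk' (fix ρ V0 U A'))) := by
      have := Set.ncard_le_ncard hRB (Set.toFinite _)
      rwa [← Nat.card_coe_set_eq] at this
    have hc1 := card_map_mk (F := fix ρ V0 U A') (W := fix ρ V0 U B) (fix_anti hBA)
    have hge : m A' ≤ m B := by
      show Nat.card A' * Nat.card (fix ρ V0 U A') ≤ Nat.card B * Nat.card (fix ρ V0 U B)
      calc Nat.card A' * Nat.card (fix ρ V0 U A')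
          ≤ Nat.card B * R.ncard * Nat.card (fix ρ V0 U A') := Nat.mul_le_mul_right _ hcount
        _ ≤ Nat.card B * Nat.card ((fix ρ V0 U B).map (QuotientGroup.mk' (fix ρ V0 U A'))) *
              Nat.card (fix ρ V0 U A') := by gcongr
        _ = Nat.card B * Nat.card (fix ρ V0 U B) := by rw [mul_assoc, hc1]
    have heq : m B = m B0 := le_antisymm (hmax B (hBA.trans h1)) (h2 ▸ hge)
    have hlt : Nat.card B < Nat.card A' := by
      rcases (Subgroup.card_le_of_le hBA).lt_or_eq with h | h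
      · exact h
      · exact absurd (Subgroup.eq_of_le_of_card_ge hBA h.ge) hB
    have hBt : ∀ v ∈ U, ∀ a ∈ B, ρ a v * v⁻¹ ∈ V0 := by
      by_contra hcon
      push Not at hcon
      have := hmin B ⟨hBA.trans h1, heq, hcon⟩
      omega
    have hfB : fix ρ V0 U B = U := htriv B hBt
    -- all cosets are commutators
    have hRU : R = (U.map (QuotientGroup.mk' (fix ρ V0 U A')) : Set (V ⧸ fix ρ V0 U A')) := by
      rw [hfB] at hRB hRn hc1
      apply Set.eq_of_subset_of_ncard_le hRB _ (Set.toFinite _)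
      rw [← Nat.card_coe_set_eq]
      show Nat.card (U.map (QuotientGroup.mk' (fix ρ V0 U A'))) ≤ _
      have e1 : Nat.card A' * Nat.card (fix ρ V0 U A') = Nat.card B * Nat.card U := by
        have : m A' = m B := h2.trans heq.symm
        have e2 : m B = Nat.card B * Nat.card U := by show _ * _ = _; rw [hfB]
        rw [e2] at this
        exact this
      have e3 : Nat.card B * Nat.card U ≤ Nat.card B * R.ncard * Nat.card (fix ρ V0 U A') := by
        rw [← e1]; exact Nat.mul_le_mul_right _ hcount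
      rw [← hc1] at e3
      have e4 : Nat.card (U.map (QuotientGroup.mk' (fix ρ V0 U A'))) * (Nat.card B * Nat.card (fix ρ V0 U A')) ≤
          R.ncard * (Nat.card B * Nat.card (fix ρ V0 U A')) := by
        calc _ = Nat.card B * (Nat.card (U.map (QuotientGroup.mk' (fix ρ V0 U A'))) * Nat.card (fix ρ V0 U A')) := by
              ring
          _ ≤ _ := e3
          _ = _ := by ring
      exact Nat.le_of_mul_le_mul_right e4 (Nat.mul_pos Nat.card_pos Nat.card_pos)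
    have hvR : (QuotientGroup.mk v : V ⧸ fix ρ V0 U A') ∈ R := by
      rw [hRU]; exact ⟨v, hv, rfl⟩
    obtain ⟨a, ha⟩ := hvR
    -- `g = v f⁻¹` satisfies `a g ≡ g²`
    have hf : (ρ (a : X) v * v⁻¹)⁻¹ * v ∈ fix ρ V0 U A' := QuotientGroup.eq.mp ha
    have hfa := hf.2 a a.2
    set f := (ρ (a : X) v * v⁻¹)⁻¹ * v with hfdef
    let g := v * f⁻¹
    have hg : ρ (a : X) g * (g ^ 2)⁻¹ ∈ V0 := by
      have h5 : ρ (a : X) v = v * f⁻¹ * v := by
        rw [hfdef]; group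
      have h6 : ρ (a : X) g * (g ^ 2)⁻¹ = (ρ (a : X) f * f⁻¹)⁻¹ := by
        show ρ (a : X) (v * f⁻¹) * ((v * f⁻¹) ^ 2)⁻¹ = _
        rw [map_mul, map_inv (ρ (a : X)), h5, pow_two]
        generalize ρ (a : X) f = z
        have : ∀ v f z : Additive V, v + -f + v + -z + -(v + -f + (v + -f)) = -(z + -f) := fun _ _ _ => by abel
        exact congrArg Additive.toMul (this (.ofMul v) (.ofMul f) (.ofMul z))
      rw [h6]
      exact V0.inv_mem hfa
    have hgn : ∀ n : ℕ, ρ ((a : X) ^ n) g * (g ^ (2 ^ n))⁻¹ ∈ V0 := by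
      intro n
      induction n with
      | zero => simp [V0.one_mem]
      | succ n ih =>
        have h7 := hV0 (a : X) _ ih
        rw [map_mul, map_inv (ρ (a : X)), ← rho_mul, ← pow_succ', map_pow (ρ (a : X)) g] at h7
        have h8 := V0.pow_mem hg (2 ^ n)
        have h9 := V0.mul_mem h7 h8
        have e : ρ ((a : X) ^ (n + 1)) g * (ρ (a : X) g ^ 2 ^ n)⁻¹ * (ρ (a : X) g * (g ^ 2)⁻¹) ^ 2 ^ n =
            ρ ((a : X) ^ (n + 1)) g * (g ^ 2 ^ (n + 1))⁻¹ := by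
          rw [mul_pow, inv_pow, ← pow_mul, ← pow_succ', mul_assoc, inv_mul_cancel_left]
        rwa [e] at h9
    obtain ⟨k, hk⟩ := (hAp.to_le h1) a
    have hk' : (a : X) ^ p ^ k = 1 := by
      have := congrArg Subtype.val hk
      simpa using this
    have h10 := hgn (p ^ k)
    rw [hk', map_one, MulAut.one_apply] at h10
    have hgU : g ∈ U := U.mul_mem hv (U.inv_mem hf.1)
    have hgp := hexp g hgU
    -- `2 ^ (p ^ k) ≡ 2 mod p`
    have hmod : 2 ^ (p ^ k) ≡ 2 [MOD p] := by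
      clear h10 hk hk'
      induction k with
      | zero => simp; rfl
      | succ k ih =>
        rw [pow_succ, pow_mul]
        have h11 : (2 ^ p ^ k) ^ p ≡ 2 ^ p ^ k [MOD p] := by
          rw [← ZMod.natCast_eq_natCast_iff]
          push_cast
          exact ZMod.pow_card _
        exact h11.trans ih
    have hgpow : ∀ n : ℕ, n ≡ 2 [MOD p] → g ^ n * (g ^ 2)⁻¹ ∈ V0 := by
      intro n hn
      have h12 : ∃ z : ℤ, (n : ℤ) = 2 + p * z := by
        have := (Nat.modEq_iff_dvd.mp hn.symm)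
        obtain ⟨z, hz⟩ := this
        exact ⟨z, by push_cast at hz; linarith⟩
      obtain ⟨z, hz⟩ := h12
      have : g ^ n * (g ^ 2)⁻¹ = (g ^ p) ^ z := by
        rw [← zpow_natCast g n, hz, zpow_add, zpow_mul, zpow_natCast]
        rw [show g ^ (2 : ℤ) = g ^ (2 : ℕ) from zpow_natCast g 2]
        rw [mul_comm (g ^ 2), mul_assoc, mul_inv_cancel, mul_one]
      rw [this]
      exact V0.zpow_mem hgp z
    have h13 := V0.mul_mem h10 (hgpow _ hmod)
    have h14 : g * (g ^ 2 ^ p ^ k)⁻¹ * (g ^ 2 ^ p ^ k * (g ^ 2)⁻¹) = g⁻¹ := by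
      rw [mul_assoc, inv_mul_cancel_left, pow_two, mul_inv, ← mul_assoc, mul_inv_cancel, one_mul]
    rw [h14] at h13
    have hg0 : g ∈ V0 := by simpa using V0.inv_mem h13
    have hv' : v ∈ fix ρ V0 U A' := by
      have : v = g * f := by show v = v * f⁻¹ * f; group
      rw [this]
      refine Subgroup.mul_mem _ ⟨hgU, fun b _ => V0.mul_mem (hV0 _ _ hg0) (V0.inv_mem hg0)⟩ hf
    apply hB
    apply le_antisymm hBA
    intro b hb
    rw [mem_centComm]
    refine ⟨hb, fun c hc => ?_⟩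
    have := hv'.2 c hc
    exact V0.mul_mem (hV0 _ _ this) (V0.inv_mem this)
  · intro B hB
    have := hmax B (hB.trans h1)
    rw [← h2] at this
    exact this

end Cfsg.Agent.NoFF
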