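import Cfsg.Agent.NoFF.Main
import Cfsg.Agent.NoFF.Repl
import Cfsg.Agent.H34.Thompson
import Cfsg.Agent.Solv.Core
set_option autoImplicit false
set_option linter.unusedSectionVars false

/-!
# Groups of characteristic `p` and the Thompson subgroup
-/

namespace Cfsg.Agent.NoFF

open Cfsg.Agent.H34

universe u v

section fixpt

variable {X : Type u} [Group X] {V : Type v} [CommGroup V] {p : ℕ}

/-- the action of `X` on `V / V₀` -/
@[reducible] def quoAct (ρ : X →* MulAut V) (V0 : Subgroup V) (hV0 : ∀ x, ∀ v ∈ V0, ρ x v ∈ V0) : MulAction X (V ⧸ V0) where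
  smul x q := QuotientGroup.map V0 V0 (ρ x).toMonoidHom (fun v hv => hV0 x v hv) q
  one_smul q := by
    induction q using QuotientGroup.induction_on with
    | H v =>
      show (QuotientGroup.mk (ρ 1 v) : V ⧸ V0) = _
      rw [map_one]; rfl
  mul_smul x y q := by
    induction q using QuotientGroup.induction_on with
    | H v =>
      show (QuotientGroup.mk (ρ (x * y) v) : V ⧸ V0) = QuotientGroup.mk (ρ x (ρ y v))
      rw [rho_mul]

theorem exists_fix [Finite V] [hp : Fact p.Prime] (hV : IsPGroup p V) (ρ : X →* MulAut V) (V0 : Subgroup V)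
    (hV0 : ∀ x, ∀ v ∈ V0, ρ x v ∈ V0) (hne : V0 ≠ ⊤) {S : Subgroup X} (hS : IsPGroup p S) :
    ∃ v ∈ fix ρ V0 ⊤ S, v ∉ V0 := by
  let _ := quoAct ρ V0 hV0
  have : Finite (V ⧸ V0) := inferInstance
  have h1 : p ∣ Nat.card (V ⧸ V0) := by
    obtain ⟨n, hn⟩ := (IsPGroup.iff_card.mp (hV.to_quotient V0))
    rcases n with _ | n
    · exfalso
      apply hne
      rw [pow_zero] at hn
      rw [← Subgroup.index_eq_one]
      exact hn
    · rw [hn, pow_succ]; exact Dvd.intro_left _ rfl
  have h2 : ((1 : V ⧸ V0)) ∈ MulAction.fixedPoints S (V ⧸ V0) := by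
    intro s
    show QuotientGroup.map V0 V0 (ρ (s : X)).toMonoidHom _ 1 = 1
    exact map_one _
  obtain ⟨b, hb, hb1⟩ := hS.exists_fixed_point_of_prime_dvd_card_of_fixed_point (V ⧸ V0) h1 h2
  induction b using QuotientGroup.induction_on with
  | H v =>
    refine ⟨v, ⟨trivial, ?_⟩, ?_⟩
    · intro a ha
      have h3 : (QuotientGroup.mk (ρ a v) : V ⧸ V0) = QuotientGroup.mk v := hb ⟨a, ha⟩
      rw [QuotientGroup.eq] at h3
      have h4 := V0.inv_mem h3
      rw [mul_inv, inv_inv] at h4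
      exact h4
    · intro hv
      exact hb1 ((QuotientGroup.eq_one_iff v).mpr hv).symm

/-- coprime action -/
theorem eq_of_coprime {x : X} {v : V} (ρ : X →* MulAut V) (hV : IsPGroup p V)
    (hx : (orderOf x).Coprime p) (h : ρ x (ρ x v * v⁻¹) = ρ x v * v⁻¹) : ρ x v = v := by
  obtain ⟨z, hz⟩ : ∃ z, z = ρ x v * v⁻¹ := ⟨_, rfl⟩
  rw [← hz] at h
  have h1 : ∀ n : ℕ, ρ (x ^ n) v = z ^ n * v := by
    intro n
    induction n with
    | zero => simp
    | succ n ih =>
      rw [pow_succ', rho_mul, ih, map_mul, map_pow, h]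
      have e : ρ x v = z * v := by rw [hz, inv_mul_cancel_right]
      rw [e, pow_succ, mul_assoc]
  have h2 := h1 (orderOf x)
  rw [pow_orderOf_eq_one, map_one] at h2
  have h3 : z ^ orderOf x = 1 := by
    have : v = z ^ orderOf x * v := h2
    exact (mul_eq_right.mp this.symm)
  obtain ⟨k, hk⟩ := hV z
  have h4 : orderOf z ∣ Nat.gcd (orderOf x) (p ^ k) :=
    Nat.dvd_gcd (orderOf_dvd_of_pow_eq_one h3) (orderOf_dvd_of_pow_eq_one hk)
  rw [Nat.Coprime.pow_right k hx, Nat.dvd_one, orderOf_eq_one_iff] at h4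
  rw [hz] at h4
  exact mul_inv_eq_one.mp h4

/-- a `p'`-automorphism trivial on the elements of order `p` is trivial -/
theorem triv_of_omega {x : X} (ρ : X →* MulAut V) (hV : IsPGroup p V) (hx : (orderOf x).Coprime p)
    (h : ∀ v : V, v ^ p = 1 → ρ x v = v) (v : V) : ρ x v = v := by
  obtain ⟨k, hk⟩ := hV v
  induction k generalizing v with
  | zero =>
    rw [pow_zero, pow_one] at hk
    rw [hk, map_one]
  | succ k ih =>
    have h1 : ρ x (v ^ p) = v ^ p := by
      apply ih
      rw [← pow_mul, ← pow_succ']; exact hk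
    apply eq_of_coprime ρ hV hx
    apply h
    rw [mul_pow, inv_pow, ← map_pow, h1, mul_inv_cancel]

end fixpt

section thmB

variable {G : Type u} [Group G] {p : ℕ}

/-- elements of order `p` (and the identity) of the center of `O_p(G)` -/
def omZ (p : ℕ) (G : Type u) [Group G] : Subgroup G where
  carrier := {y | y ∈ Cfsg.pCore p G ∧ (∀ q ∈ Cfsg.pCore p G, q * y = y * q) ∧ y ^ p = 1}
  one_mem' := ⟨one_mem _, fun q _ => by simp, one_pow _⟩
  mul_mem' := by
    rintro a b ⟨h1, h2, h3⟩ ⟨k1, k2, k3⟩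
    refine ⟨mul_mem h1 k1, fun q hq => by rw [← mul_assoc, h2 q hq, mul_assoc, k2 q hq, mul_assoc], ?_⟩
    have hc : Commute a b := (h2 b k1).symm
    rw [hc.mul_pow, h3, k3, one_mul]
  inv_mem' := by
    rintro a ⟨h1, h2, h3⟩
    refine ⟨inv_mem h1, fun q hq => ?_, by rw [inv_pow, h3, inv_one]⟩
    have : Commute q a := h2 q hq
    exact this.inv_right

theorem mem_omZ {y : G} : y ∈ omZ p G ↔ y ∈ Cfsg.pCore p G ∧ (∀ q ∈ Cfsg.pCore p G, q * y = y * q) ∧ y ^ p = 1 :=
  Iff.rfl

instance : (Cfsg.pCore p G).Normal := by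
  infer_instance

instance omZ_normal : (omZ p G).Normal := by
  constructor
  rintro y ⟨h1, h2, h3⟩ g
  refine ⟨Subgroup.Normal.conj_mem inferInstance y h1 g, ?_, ?_⟩
  · intro q hq
    have h4 := h2 (g⁻¹ * q * g) (by
      have := Subgroup.Normal.conj_mem (inferInstance : (Cfsg.pCore p G).Normal) q hq g⁻¹
      rwa [inv_inv] at this)
    have e1 : q * (g * y * g⁻¹) = g * ((g⁻¹ * q * g) * y) * g⁻¹ := by group
    rw [e1, h4]; group
  · rw [conj_pow, h3, mul_one, mul_inv_cancel]

instance omZCommGroup : CommGroup (omZ p G) :=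
  { (inferInstance : Group (omZ p G)) with mul_comm := fun a b => Subtype.ext (b.2.2.1 a a.2.1) }

abbrev rY (p : ℕ) (G : Type u) [Group G] : G →* MulAut (omZ p G) := MulAut.conjNormal

theorem rY_apply (g : G) (y : omZ p G) : ((rY p G g y : omZ p G) : G) = g * y * g⁻¹ := MulAut.conjNormal_apply g y

/-- the elements of `omZ` centralized by the `p'`-elements -/
def vZero (p : ℕ) (G : Type u) [Group G] : Subgroup (omZ p G) where
  carrier := {y | ∀ x : G, (orderOf x).Coprime p → rY p G x y = y}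
  one_mem' := fun x _ => map_one _
  mul_mem' := fun {a b} ha hb x hx => by rw [map_mul, ha x hx, hb x hx]
  inv_mem' := fun {a} ha x hx => by rw [map_inv, ha x hx]

theorem mem_vZero {y : omZ p G} : y ∈ vZero p G ↔ ∀ x : G, (orderOf x).Coprime p → rY p G x y = y := Iff.rfl

theorem orderOf_conj' (x g : G) : orderOf (g * x * g⁻¹) = orderOf x := by
  have : g * x * g⁻¹ = (MulAut.conj g) x := rfl
  rw [this]
  exact orderOf_injective (MulAut.conj g).toMonoidHom (MulAut.conj g).injective x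

theorem vZero_inv (g : G) : ∀ v ∈ vZero p G, rY p G g v ∈ vZero p G := by
  intro v hv x hx
  have h1 := hv (g⁻¹ * x * g) (by
    have := orderOf_conj' x g⁻¹
    rw [inv_inv] at this
    rwa [this])
  rw [← rho_conj (rY p G) g x v, h1]

theorem card_sup_mul_card_inf' [Finite G] (A B : Subgroup G) [B.Normal] :
    Nat.card ↥(A ⊔ B) * Nat.card ↥(A ⊓ B) = Nat.card A * Nat.card B := by
  have h1 : Nat.card B * B.relIndex (A ⊔ B) = Nat.card ↥(A ⊔ B) := by
    have := Subgroup.relIndex_mul_relIndex ⊥ B (A ⊔ B) bot_le le_sup_right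
    rwa [Subgroup.relIndex_bot_left, Subgroup.relIndex_bot_left] at this
  have h2 : Nat.card ↥(A ⊓ B) * (A ⊓ B).relIndex A = Nat.card A := by
    have := Subgroup.relIndex_mul_relIndex ⊥ (A ⊓ B) A bot_le inf_le_left
    rwa [Subgroup.relIndex_bot_left, Subgroup.relIndex_bot_left] at this
  have h3 : B.relIndex (A ⊔ B) = B.relIndex A := Subgroup.relIndex_sup_right A B
  rw [← h1, h3, ← h2, Subgroup.inf_relIndex_left]
  ring

/-- **Theorem B.** -/
theorem thmB [Finite G] [hp : Fact p.Prime] (S : Sylow p G)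
    (M : Subgroup G) (hMt : M ≠ ⊤) (hM : ∀ K : Subgroup G, (S : Subgroup G) ≤ K → K ≠ ⊤ → K ≤ M)
    (hNS : NoS (rY p G) ⊥ ⊤)
    (hY : ∃ x : G, (orderOf x).Coprime p ∧ ∃ y ∈ omZ p G, x * y ≠ y * x) :
    ∀ A ∈ maxEA p (S : Subgroup G), A ≤ Cfsg.pCore p G := by
  intro A hA
  by_contra hAQ
  have hQp : IsPGroup p (Cfsg.pCore p G) := Cfsg.Agent.Solv.pCore_isPGroup p
  have hQS : Cfsg.pCore p G ≤ (S : Subgroup G) := Cfsg.Agent.Solv.pCore_le_sylow S
  have hYQ : omZ p G ≤ Cfsg.pCore p G := fun y hy => hy.1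
  have hVp : IsPGroup p (omZ p G) := hQp.to_le hYQ
  have hpow : ∀ v : omZ p G, v ^ p = 1 := fun v => Subtype.ext v.2.2.2
  have hV0t : vZero p G ≠ ⊤ := by
    intro h
    obtain ⟨x, hx, y, hy, hxy⟩ := hY
    have h1 : (⟨y, hy⟩ : omZ p G) ∈ vZero p G := by rw [h]; trivial
    have h2 := congrArg Subtype.val (h1 x hx)
    rw [rY_apply] at h2
    exact hxy (mul_inv_eq_iff_eq_mul.mp h2)
  have hU : ∀ x : G, ∀ v ∈ (⊤ : Subgroup (omZ p G)), rY p G x v ∈ (⊤ : Subgroup (omZ p G)) := fun _ _ _ => trivial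
  have hV0 := vZero_inv (p := p) (G := G)
  -- elements of Q act trivially
  have hQtriv : ∀ x ∈ Cfsg.pCore p G, ∀ v : omZ p G, rY p G x v = v := by
    intro x hx v
    apply Subtype.ext
    rw [rY_apply, v.2.2.1 x hx, mul_inv_cancel_right]
  have hnormQ : ∀ R : Subgroup G, R.Normal → IsPGroup p R → R ≤ Cfsg.pCore p G := fun R hn hR =>
    Cfsg.Agent.Solv.le_pCore hn hR
  -- (ii)
  set E := actKer (rY p G) (vZero p G) ⊤ hV0 with hE
  have hEn : E.Normal := actKer_normal _ _ _ _ hU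
  have hcop : ∀ x : G, (orderOf x).Coprime p → ∀ v : omZ p G, rY p G x v * v⁻¹ ∈ vZero p G → rY p G x v = v :=
    fun x hx v hv => eq_of_coprime _ hVp hx (hv x hx)
  have hES : E ⊔ (S : Subgroup G) ≠ ⊤ := by
    intro h
    apply hV0t
    rw [eq_top_iff]
    intro v _ x hx
    apply hcop x hx
    have hxE : x ∈ E := by
      rw [← QuotientGroup.eq_one_iff, ← orderOf_eq_one_iff]
      have h1 : orderOf (QuotientGroup.mk x : G ⧸ E) ∣ orderOf x := orderOf_map_dvd (QuotientGroup.mk' E) x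
      have h2 : IsPGroup p (G ⧸ E) := by
        have h3 : (S : Subgroup G).map (QuotientGroup.mk' E) = ⊤ := by
          have h4 : (E ⊔ (S : Subgroup G)).map (QuotientGroup.mk' E) = ⊤ := by
            rw [h, ← MonoidHom.range_eq_map, MonoidHom.range_eq_top]
            exact QuotientGroup.mk'_surjective E
          rw [Subgroup.map_sup, QuotientGroup.map_mk'_self, bot_sup_eq] at h4
          exact h4
        have h5 := S.2.map (QuotientGroup.mk' E)
        rw [h3] at h5
        exact h5.of_equiv Subgroup.topEquiv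
      obtain ⟨k, hk⟩ := h2 (QuotientGroup.mk x)
      have h6 : orderOf (QuotientGroup.mk x : G ⧸ E) ∣ Nat.gcd (orderOf x) (p ^ k) :=
        Nat.dvd_gcd h1 (orderOf_dvd_of_pow_eq_one hk)
      rwa [Nat.Coprime.pow_right k hx, Nat.dvd_one] at h6
    exact hxE v trivial
  have hEM : E ≤ M := le_trans le_sup_left (hM _ le_sup_right hES)
  have hSM : (S : Subgroup G) ≤ M := le_trans le_sup_right (hM _ le_sup_right hES)
  have hSE : (S : Subgroup G) ⊓ E ≤ Cfsg.pCore p G := by
    have h1 := frattini S E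
    have h2 : Subgroup.normalizer (((S : Subgroup G) ⊓ E : Subgroup G) : Set G) = ⊤ := by
      by_contra hcon
      have h3 : (S : Subgroup G) ≤ Subgroup.normalizer (((S : Subgroup G) ⊓ E : Subgroup G) : Set G) := by
        intro s hs
        rw [mem_normalizer_iff_cj, cj_inf, cj_of_mem hs]
        congr 1
        apply cj_le_self_eq
        intro g hg
        rw [mem_cj] at hg
        have := hEn.conj_mem _ hg s
        have e : s * (s⁻¹ * g * s) * s⁻¹ = g := by group
        rwa [e] at this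
      apply hMt
      rw [eq_top_iff, ← h1]
      exact sup_le hEM (hM _ h3 hcon)
    exact hnormQ _ (Subgroup.normalizer_eq_top_iff.mp h2) (S.2.to_le inf_le_left)
  -- (iii)
  obtain ⟨hA1, hA2, hA3⟩ := hA
  have hA2' := (isElementaryAbelian_iff p A).mp hA2
  have hAE : ¬ A ≤ E := fun h => hAQ ((le_inf hA1 h).trans hSE)
  have hoff : Nat.card ↥(A ⊓ actKer (rY p G) (vZero p G) ⊤ hV0) * Nat.card (⊤ : Subgroup (omZ p G)) ≤
      Nat.card A * Nat.card (fix (rY p G) (vZero p G) ⊤ A) := by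
    rw [← hE]
    have hA0Q : A ⊓ E ≤ Cfsg.pCore p G := le_trans (le_inf (inf_le_left.trans hA1) inf_le_right) hSE
    have hcomm : ∀ a ∈ A ⊓ E, ∀ y ∈ omZ p G, a * y = y * a := fun a ha y hy => hy.2.1 a (hA0Q ha)
    have hel : Cfsg.IsElementaryAbelian p ((A ⊓ E) ⊔ omZ p G : Subgroup G) := by
      rw [isElementaryAbelian_iff]
      have hform : ∀ g ∈ (A ⊓ E) ⊔ omZ p G, ∃ a ∈ A ⊓ E, ∃ y ∈ omZ p G, g = a * y := by
        intro g hg
        rw [← SetLike.mem_coe, Subgroup.mul_normal] at hg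
        obtain ⟨a, ha, y, hy, rfl⟩ := hg
        exact ⟨a, ha, y, hy, rfl⟩
      constructor
      · intro g hg g' hg'
        obtain ⟨a, ha, y, hy, rfl⟩ := hform g hg
        obtain ⟨a', ha', y', hy', rfl⟩ := hform g' hg'
        have c1 : Commute a a' := hA2'.1 a ha.1 a' ha'.1
        have c2 : Commute a y' := hcomm a ha y' hy'
        have c3 : Commute a' y := hcomm a' ha' y hy
        have c4 : Commute y y' := hy'.2.1 y hy.1
        exact (Commute.mul_left (c1.mul_right c2) (c3.symm.mul_right c4))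
      · intro g hg
        obtain ⟨a, ha, y, hy, rfl⟩ := hform g hg
        have c : Commute a y := hcomm a ha y hy
        rw [c.mul_pow, hA2'.2 a ha.1, hy.2.2, one_mul]
    have h1 := hA3 _ (sup_le (inf_le_left.trans hA1) (hYQ.trans hQS)) hel
    have h2 : Nat.card ↥(A ⊓ E) * Nat.card (omZ p G) = Nat.card ↥((A ⊓ E) ⊔ omZ p G) * Nat.card ↥((A ⊓ E) ⊓ omZ p G) :=
      (card_sup_mul_card_inf' _ _).symm
    have h3 : Nat.card ↥((A ⊓ E) ⊓ omZ p G) ≤ Nat.card (fix (rY p G) (vZero p G) ⊤ A) := by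
      let f : ↥((A ⊓ E) ⊓ omZ p G) → fix (rY p G) (vZero p G) ⊤ A := fun y => ⟨⟨y, y.2.2⟩, trivial, by
        intro a ha
        have : rY p G a ⟨y, y.2.2⟩ = ⟨y, y.2.2⟩ := by
          apply Subtype.ext
          rw [rY_apply]
          show a * (y : G) * a⁻¹ = y
          rw [hA2'.1 a ha y y.2.1.1, mul_inv_cancel_right]
        rw [this, mul_inv_cancel]
        exact one_mem _⟩
      apply Nat.card_le_card_of_injective f
      intro y y' h
      apply Subtype.ext
      have := congrArg (fun z : ↥(fix (rY p G) (vZero p G) ⊤ A) => ((z : omZ p G) : G)) h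
      exact this
    have h4 : Nat.card (⊤ : Subgroup (omZ p G)) = Nat.card (omZ p G) := Nat.card_congr Subgroup.topEquiv.toEquiv
    rw [h4, h2]
    exact Nat.mul_le_mul h1 h3
  obtain ⟨A', hA', hQ'⟩ := exists_isQ (p := p) hV0 hU (fun v _ => by rw [hpow v]; exact one_mem _)
    (S.2.to_le hA1) hA2'.1 (by
      by_contra hcon
      push Not at hcon
      exact hAE fun a ha v hv => hcon v hv a ha) hoff
  -- (iv)
  have hJ : Subgroup.normalizer (JJ p (rY p G) (vZero p G) ⊤ (S : Subgroup G) : Set G) ≤ M := by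
    apply hM _ (le_trans Subgroup.le_normalizer (normalizer_le_normalizer_JJ hV0 hU _))
    intro h
    have h1 := hnormQ _ (Subgroup.normalizer_eq_top_iff.mp h) (S.2.to_le (JJ_le _))
    obtain ⟨v, hv, a, ha, hav⟩ := hQ'.nt
    apply hav
    rw [hQtriv a (h1 (le_JJ (hA'.trans hA1) hQ' ha)) v, mul_inv_cancel]
    exact one_mem _
  -- (i)
  have hfix : ∀ x : G, (∀ v ∈ fix (rY p G) (vZero p G) ⊤ (S : Subgroup G), rY p G x v * v⁻¹ ∈ vZero p G) → x ∈ M := by
    by_contra hcon
    push Not at hcon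
    have hD : actKer (rY p G) (vZero p G) (fix (rY p G) (vZero p G) ⊤ (S : Subgroup G)) hV0 = ⊤ := by
      by_contra hD
      obtain ⟨x, hx, hxM⟩ := hcon
      refine hxM (hM _ ?_ hD (x := x) hx)
      intro s hs v hv
      exact hv.2 s hs
    obtain ⟨v, hv, hv0⟩ := exists_fix hVp (rY p G) (vZero p G) hV0 hV0t S.2
    apply hv0
    intro x hx
    apply hcop x hx
    have h1 : x ∈ actKer (rY p G) (vZero p G) (fix (rY p G) (vZero p G) ⊤ (S : Subgroup G)) hV0 := by rw [hD]; trivial
    exact h1 v hv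
  exact hMt (main (p := p) (rY p G) (vZero p G) ⊤ hV0 hU le_top
    (fun a b D _ => hNS a b D bot_le) S M hfix hJ)

end thmB

end Cfsg.Agent.NoFF
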