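import Cfsg.Agent.NoFF.Syl
set_option autoImplicit false
set_option linter.unusedSectionVars false

/-!
# The minimal situation

`X` acts on `U / V₀`, `S` is a Sylow `p`-subgroup, `H ≠ X` contains the stabiliser of `C_{U/V₀}(S)` and the normalizer
of `J(S)`, and smaller situations do not exist.
-/

namespace Cfsg.Agent.NoFF

universe u v

variable {X : Type u} [Group X] [Finite X] {V : Type v} [CommGroup V] [Finite V] {p : ℕ} [hp : Fact p.Prime]

/-- the minimal situation -/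
structure Ctx (p : ℕ) (ρ : X →* MulAut V) (V0 U : Subgroup V) (S : Sylow p X) (H : Subgroup X) : Prop where
  hV0 : ∀ x, ∀ v ∈ V0, ρ x v ∈ V0
  hU : ∀ x, ∀ v ∈ U, ρ x v ∈ U
  h0U : V0 ≤ U
  hNS : NoS ρ V0 U
  hC : ∀ x, (∀ v ∈ fix ρ V0 U (S : Subgroup X), ρ x v * v⁻¹ ∈ V0) → x ∈ H
  hN : Subgroup.normalizer (JJ p ρ V0 U (S : Subgroup X) : Set X) ≤ H
  hH : H ≠ ⊤
  ih : ∀ (K T : Subgroup X) (U' : Subgroup V), IsSylIn p T K → V0 ≤ U' → U' ≤ U →
    (∀ x ∈ K, ∀ v ∈ U', ρ x v ∈ U') → Nat.card K + Nat.card U' < Nat.card X + Nat.card U →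
    (∀ x ∈ K, (∀ v ∈ fix ρ V0 U' T, ρ x v * v⁻¹ ∈ V0) → x ∈ H) →
    (∀ x ∈ K, x ∈ Subgroup.normalizer (JJ p ρ V0 U' T : Set X) → x ∈ H) → K ≤ H

/-- the smallest invariant subgroup containing `F` -/
def spanU (ρ : X →* MulAut V) (F : Subgroup V) : Subgroup V := ⨆ x, F.map (ρ x).toMonoidHom

omit [Finite X] [Finite V] in
theorem le_spanU (ρ : X →* MulAut V) (F : Subgroup V) : F ≤ spanU ρ F := by
  refine le_trans ?_ (le_iSup (fun x => F.map (ρ x).toMonoidHom) 1)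
  intro v hv
  exact ⟨v, hv, by simp⟩

omit [Finite X] [Finite V] in
theorem spanU_le (ρ : X →* MulAut V) {F U : Subgroup V} (hU : ∀ x, ∀ v ∈ U, ρ x v ∈ U) (h : F ≤ U) :
    spanU ρ F ≤ U := by
  apply iSup_le
  rintro x _ ⟨v, hv, rfl⟩
  exact hU x v (h hv)

omit [Finite X] [Finite V] in
theorem spanU_inv (ρ : X →* MulAut V) (F : Subgroup V) (x : X) : ∀ v ∈ spanU ρ F, ρ x v ∈ spanU ρ F := by
  intro v hv
  have : (spanU ρ F).map (ρ x).toMonoidHom ≤ spanU ρ F := by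
    unfold spanU
    rw [Subgroup.map_iSup]
    apply iSup_le
    intro y
    rintro _ ⟨_, ⟨w, hw, rfl⟩, rfl⟩
    apply (le_iSup (fun x => F.map (ρ x).toMonoidHom) (x * y))
    exact ⟨w, hw, rho_mul ρ x y w⟩
  exact this ⟨v, hv, rfl⟩

/-- the elements acting trivially on `U / V₀` -/
def actKer (ρ : X →* MulAut V) (V0 U : Subgroup V) (hV0 : ∀ x, ∀ v ∈ V0, ρ x v ∈ V0)
    : Subgroup X where
  carrier := {x | ∀ v ∈ U, ρ x v * v⁻¹ ∈ V0}
  mul_mem' := by
    intro x y hx hy v hv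
    have : ρ (x * y) v * v⁻¹ = ρ x (ρ y v * v⁻¹) * (ρ x v * v⁻¹) := by
      rw [rho_mul, map_mul, map_inv]; group
    rw [this]
    exact V0.mul_mem (hV0 x _ (hy v hv)) (hx v hv)
  one_mem' := by
    intro v _
    simp [V0.one_mem]
  inv_mem' := by
    intro x hx v hv
    have : ρ x⁻¹ v * v⁻¹ = (ρ x⁻¹ (ρ x v * v⁻¹))⁻¹ := by
      rw [map_mul, rho_inv_self, map_inv (ρ x⁻¹), mul_inv, inv_inv, mul_comm]
    rw [this]
    exact V0.inv_mem (hV0 _ _ (hx v hv))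

theorem mem_actKer {ρ : X →* MulAut V} {V0 U : Subgroup V} {hV0 : ∀ x, ∀ v ∈ V0, ρ x v ∈ V0} {x : X} :
    x ∈ actKer ρ V0 U hV0 ↔ ∀ v ∈ U, ρ x v * v⁻¹ ∈ V0 := Iff.rfl

theorem actKer_normal (ρ : X →* MulAut V) (V0 U : Subgroup V) (hV0 : ∀ x, ∀ v ∈ V0, ρ x v ∈ V0)
    (hU : ∀ x, ∀ v ∈ U, ρ x v ∈ U) : (actKer ρ V0 U hV0).Normal := by
  constructor
  intro x hx g v hv
  have h1 := hV0 g _ (hx (ρ g⁻¹ v) (hU _ _ hv))
  have : ρ g (ρ x (ρ g⁻¹ v) * (ρ g⁻¹ v)⁻¹) = ρ (g * x * g⁻¹) v * v⁻¹ := by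
    rw [map_mul, map_inv (ρ g), rho_self_inv, ← rho_mul, ← rho_mul, mul_assoc]
  rwa [this] at h1

namespace Ctx

variable {ρ : X →* MulAut V} {V0 U : Subgroup V} {S : Sylow p X} {H : Subgroup X}

omit [Finite X] [Finite V] hp in
theorem S_le (c : Ctx p ρ V0 U S H) : (S : Subgroup X) ≤ H := fun x hx => c.hC x fun _ hv => hv.2 x hx

omit [Finite V] hp in
theorem card_lt {K : Subgroup X} (hK : K ≠ ⊤) : Nat.card K < Nat.card X := by
  have := Subgroup.card_le_card_group K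
  rcases this.lt_or_eq with h | h
  · exact h
  · exact absurd (Subgroup.eq_top_of_card_eq K h) hK

/-- `H` is the only maximal subgroup over `S` -/
theorem alpha (c : Ctx p ρ V0 U S H) {K : Subgroup X} (hSK : (S : Subgroup X) ≤ K) (hK : K ≠ ⊤) : K ≤ H := by
  apply c.ih K S U ((isSylIn_top S).mono hSK le_top) c.h0U le_rfl (fun x _ => c.hU x)
    (by have := card_lt hK; omega) (fun x _ hx => c.hC x hx) (fun x _ hx => c.hN hx)

omit [Finite V] in
theorem exists_conj_le (c : Ctx p ρ V0 U S H) {T : Subgroup X} (hT : IsPGroup p T) (hTH : T ≤ H) :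
    ∃ h ∈ H, T ≤ cj h (S : Subgroup X) :=
  ((isSylIn_top S).mono c.S_le le_top).exists_le hT hTH

theorem alpha' (c : Ctx p ρ V0 U S H) {K : Subgroup X} {x : X} (hSK : cj x (S : Subgroup X) ≤ K) (hK : K ≠ ⊤) :
    K ≤ cj x H := by
  rw [le_cj_iff]
  apply c.alpha
  · rwa [← cj_le_cj (x := x), cj_cj_inv]
  · intro h
    apply hK
    have := congrArg (cj x) h
    rwa [cj_cj_inv, cj_top] at this

omit [Finite V] in
/-- normal `p`-subgroups act trivially on the span of the fixed points -/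
theorem triv_span (c : Ctx p ρ V0 U S H) {R : Subgroup X} (hn : R.Normal) (hR : IsPGroup p R) {x : X} (hx : x ∈ R) :
    ∀ v ∈ spanU ρ (fix ρ V0 U (S : Subgroup X)), ρ x v * v⁻¹ ∈ V0 := by
  intro v hv
  have key : spanU ρ (fix ρ V0 U (S : Subgroup X)) ≤ fix ρ V0 U R := by
    apply iSup_le
    rintro y _ ⟨w, hw, rfl⟩
    have h1 : w ∈ fix ρ V0 U (cj y⁻¹ R) := by
      refine ⟨hw.1, fun a ha => hw.2 a ?_⟩
      rw [mem_cj, inv_inv] at ha
      have := hn.conj_mem _ ha y⁻¹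
      have e : y⁻¹ * (y * a * y⁻¹) * y⁻¹⁻¹ = a := by group
      rw [e] at this
      exact normal_le_sylow S hR this
    have h2 := conj_mem_fix c.hV0 (c.hU y) h1
    rwa [cj_cj_inv] at h2
  exact (key hv).2 x hx

theorem span_eq (c : Ctx p ρ V0 U S H) : spanU ρ (fix ρ V0 U (S : Subgroup X)) = U := by
  by_contra hne
  set U1 := spanU ρ (fix ρ V0 U (S : Subgroup X)) with hU1
  have hle : U1 ≤ U := spanU_le ρ c.hU (fix_le _)
  have hlt : Nat.card U1 < Nat.card U := by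
    rcases (Subgroup.card_le_of_le hle).lt_or_eq with h | h
    · exact h
    · exact absurd (Subgroup.eq_of_le_of_card_ge hle h.ge) hne
  have h0 : V0 ≤ U1 := (le_fix c.hV0 c.h0U _).trans (le_spanU ρ _)
  have hinv : ∀ x, ∀ v ∈ U1, ρ x v ∈ U1 := spanU_inv ρ _
  have hfix : fix ρ V0 U1 (S : Subgroup X) = fix ρ V0 U (S : Subgroup X) := by
    apply le_antisymm
    · intro v hv; exact ⟨hle hv.1, hv.2⟩
    · intro v hv; exact ⟨le_spanU ρ _ hv, hv.2⟩
  by_cases hn : Subgroup.normalizer (JJ p ρ V0 U1 (S : Subgroup X) : Set X) = ⊤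
  · -- no offender on `U1`
    have hJn : (JJ p ρ V0 U1 (S : Subgroup X)).Normal := Subgroup.normalizer_eq_top_iff.mp hn
    have hJp : IsPGroup p (JJ p ρ V0 U1 (S : Subgroup X)) := S.2.to_le (JJ_le _)
    have hno : ∀ A ≤ (S : Subgroup X), ¬ IsQ p ρ V0 U1 A := by
      intro A hA hAQ
      obtain ⟨v, hv, a, ha, hav⟩ := hAQ.nt
      exact hav (c.triv_span hJn hJp (le_JJ hA hAQ ha) v hv)
    have hKn : (actKer ρ V0 U1 c.hV0).Normal := actKer_normal _ _ _ _ hinv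
    have hKH : actKer ρ V0 U1 c.hV0 ≤ H := fun x hx => c.hC x fun v hv => hx v (le_spanU ρ _ hv)
    have hJ : JJ p ρ V0 U (S : Subgroup X) = JJ p ρ V0 U ((S : Subgroup X) ⊓ actKer ρ V0 U1 c.hV0) := by
      apply le_antisymm _ (JJ_mono inf_le_left)
      apply sSup_le
      rintro A ⟨hA, hAQ⟩
      refine le_JJ (le_inf hA ?_) hAQ
      by_contra hcon
      apply hno A hA
      apply hAQ.restrict hle
      by_contra hcon2
      push Not at hcon2
      exact hcon fun a ha v hv => hcon2 v hv a ha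
    have h1 := frattini S (actKer ρ V0 U1 c.hV0)
    apply c.hH
    rw [eq_top_iff, ← h1]
    refine sup_le hKH ?_
    refine le_trans ?_ c.hN
    rw [hJ]
    exact normalizer_le_normalizer_JJ c.hV0 c.hU _
  · apply c.hH
    rw [eq_top_iff]
    apply c.ih ⊤ S U1 (isSylIn_top S) h0 hle (fun x _ => hinv x)
    · rw [Nat.card_congr (Subgroup.topEquiv (G := X)).toEquiv]; omega
    · intro x _ hx
      rw [hfix] at hx
      exact c.hC x hx
    · intro x _ hx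
      refine c.alpha ?_ hn hx
      exact le_trans Subgroup.le_normalizer (normalizer_le_normalizer_JJ c.hV0 hinv _)

/-- normal `p`-subgroups act trivially -/
theorem triv_normal (c : Ctx p ρ V0 U S H) {R : Subgroup X} (hn : R.Normal) (hR : IsPGroup p R) {x : X} (hx : x ∈ R) :
    ∀ v ∈ U, ρ x v * v⁻¹ ∈ V0 := by
  have := c.triv_span hn hR hx
  rwa [c.span_eq] at this

theorem not_normal_of_isQ (c : Ctx p ρ V0 U S H) {A R : Subgroup X} (hA : IsQ p ρ V0 U A) (hAR : A ≤ R)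
    (hR : IsPGroup p R) : ¬ R.Normal := by
  intro hn
  obtain ⟨v, hv, a, ha, hav⟩ := hA.nt
  exact hav (c.triv_normal hn hR (hAR ha) v hv)

/-- normalizers of `p`-subgroups containing offenders are in `H` -/
theorem norm_le (c : Ctx p ρ V0 U S H) {A R : Subgroup X} (hA : IsQ p ρ V0 U A) (hAR : A ≤ R)
    (hR : IsPGroup p R) (hRH : R ≤ H) : Subgroup.normalizer (R : Set X) ≤ H := by
  by_contra hcon
  let P : Set (Subgroup X × Subgroup X) := {q | IsPGroup p q.1 ∧ q.1 ≤ H ∧ (∃ A ≤ q.1, IsQ p ρ V0 U A) ∧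
    ¬ Subgroup.normalizer (q.1 : Set X) ≤ H ∧ IsPGroup p q.2 ∧ q.2 ≤ H ∧ q.2 ≤ Subgroup.normalizer (q.1 : Set X)}
  have hP : P.Nonempty := ⟨(R, R), hR, hRH, ⟨A, hAR, hA⟩, hcon, hR, hRH, Subgroup.le_normalizer⟩
  obtain ⟨⟨R0, T0⟩, hmem, hmax⟩ := Set.exists_max_image P (fun q => Nat.card q.2) (Set.toFinite _) hP
  obtain ⟨a1, a2, ⟨A0, a3, a4⟩, a5, a6, a7, a8⟩ := hmem
  simp only at a1 a2 a3 a5 a6 a7 a8 hmax
  -- conjugate into `S`
  obtain ⟨h, hh, hT0⟩ := c.exists_conj_le a6 a7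
  obtain ⟨R1, T1, b1, b2, ⟨A1, b3, b4⟩, b5, b6, b7, b8, b9⟩ : ∃ R1 T1 : Subgroup X, IsPGroup p R1 ∧ R1 ≤ H ∧
      (∃ A ≤ R1, IsQ p ρ V0 U A) ∧ ¬ Subgroup.normalizer (R1 : Set X) ≤ H ∧ IsPGroup p T1 ∧
      T1 ≤ (S : Subgroup X) ∧ T1 ≤ Subgroup.normalizer (R1 : Set X) ∧
      ∀ q ∈ P, Nat.card q.2 ≤ Nat.card T1 := by
    refine ⟨cj h⁻¹ R0, cj h⁻¹ T0, cj_isPGroup a1, ?_, ⟨cj h⁻¹ A0, cj_mono _ a3, a4.conj c.hV0 (c.hU _) (c.hU _)⟩, ?_,
      cj_isPGroup a6, ?_, ?_, ?_⟩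
    · rw [← cj_of_mem (H.inv_mem hh)]; exact cj_mono _ a2
    · rw [normalizer_cj, ← cj_of_mem (H.inv_mem hh), cj_le_cj]; exact a5
    · rwa [← le_cj_iff]
    · rw [normalizer_cj]; exact cj_mono _ a8
    · intro q hq
      rw [card_cj]
      exact hmax q hq
  have hne : ¬ (S : Subgroup X) ≤ T1 := by
    intro hST
    apply b5
    apply c.alpha (hST.trans b8)
    intro htop
    exact c.not_normal_of_isQ b4 b3 b1 (Subgroup.normalizer_eq_top_iff.mp htop)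
  have hRT : R1 ≤ T1 := by
    have h1 : IsPGroup p ↥(T1 ⊔ R1) := by
      apply b6.to_sup_of_normal_right' b1 b8
    have h2 : Nat.card ↥(T1 ⊔ R1) ≤ Nat.card T1 :=
      b9 (R1, T1 ⊔ R1) ⟨b1, b2, ⟨A1, b3, b4⟩, b5, h1, sup_le (b7.trans c.S_le) b2, sup_le b8 Subgroup.le_normalizer⟩
    have h3 := Subgroup.eq_of_le_of_card_ge (le_sup_left : T1 ≤ T1 ⊔ R1) h2
    rw [h3]
    exact le_sup_right
  obtain ⟨T2, d1, d2, d3⟩ := exists_normalizing S.2 (lt_of_le_of_ne b7 (fun e => hne e.ge))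
  have hlt : ∀ {A B : Subgroup X}, A < B → Nat.card A < Nat.card B := by
    intro A B hAB
    rcases (Subgroup.card_le_of_le hAB.le).lt_or_eq with h | h
    · exact h
    · exact absurd (Subgroup.eq_of_le_of_card_ge hAB.le h.ge) hAB.ne
  -- the normalizer of `T1`
  have e1 : Subgroup.normalizer (T1 : Set X) ≤ H := by
    by_contra hc
    have := b9 (T1, T2) ⟨b6, b7.trans c.S_le, ⟨A1, b3.trans hRT, b4⟩, hc, S.2.to_le d2, d2.trans c.S_le, d3⟩
    have := hlt d1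
    simp only at *
    omega
  have e2 : IsSylIn p T1 (Subgroup.normalizer (R1 : Set X)) := by
    refine ⟨b8, b6, fun T' f1 f2 f3 => ?_⟩
    by_contra hc
    obtain ⟨T3, g1, g2, g3⟩ := exists_normalizing f1 (lt_of_le_of_ne f2 (fun e => hc e.ge))
    have := b9 (R1, T3) ⟨b1, b2, ⟨A1, b3, b4⟩, b5, f1.to_le g2, g3.trans e1, g2.trans f3⟩
    have := hlt g1
    simp only at *
    omega
  have e3 : Subgroup.normalizer (JJ p ρ V0 U T1 : Set X) ≤ H := by
    by_contra hc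
    have := b9 (JJ p ρ V0 U T1, T2) ⟨b6.to_le (JJ_le _), (JJ_le _).trans (b7.trans c.S_le),
      ⟨A1, le_JJ (b3.trans hRT) b4, b4⟩, hc, S.2.to_le d2, d2.trans c.S_le,
      d3.trans (normalizer_le_normalizer_JJ c.hV0 c.hU _)⟩
    have := hlt d1
    simp only at *
    omega
  apply b5
  apply c.ih _ T1 U e2 c.h0U le_rfl (fun x _ => c.hU x)
  · have : Subgroup.normalizer (R1 : Set X) ≠ ⊤ := fun htop =>
      c.not_normal_of_isQ b4 b3 b1 (Subgroup.normalizer_eq_top_iff.mp htop)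
    have := card_lt this
    omega
  · intro x _ hx
    exact c.hC x fun v hv => hx v (fix_anti b7 hv)
  · exact fun x _ hx => e3 hx

end Ctx

end Cfsg.Agent.NoFF
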