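import Cfsg.Agent.NoFF.Core
set_option autoImplicit false
set_option linter.unusedSectionVars false

/-!
# The minimal situation: uniqueness of `H` over an offender, and reduction to the whole group
-/

namespace Cfsg.Agent.NoFF

universe u v

variable {X : Type u} [Group X] [Finite X] {V : Type v} [CommGroup V] [Finite V] {p : ℕ} [hp : Fact p.Prime]

namespace Ctx

variable {ρ : X →* MulAut V} {V0 U : Subgroup V} {S : Sylow p X} {H : Subgroup X}

theorem norm_le_cj (c : Ctx p ρ V0 U S H) {A R : Subgroup X} {x : X} (hA : IsQ p ρ V0 U A) (hAR : A ≤ R)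
    (hR : IsPGroup p R) (hRH : R ≤ cj x H) : Subgroup.normalizer (R : Set X) ≤ cj x H := by
  have h1 := c.norm_le (hA.conj c.hV0 (c.hU x⁻¹) (c.hU _)) (cj_mono x⁻¹ hAR) (cj_isPGroup hR)
    (by rwa [← le_cj_iff])
  rw [normalizer_cj] at h1
  rwa [le_cj_iff]

/-- `H` is self-normalizing -/
theorem mem_of_cj_eq (c : Ctx p ρ V0 U S H) {A : Subgroup X} (hA : IsQ p ρ V0 U A) {x : X} (hx : cj x H = H) :
    x ∈ H := by
  have hxN : x ∈ Subgroup.normalizer (H : Set X) := mem_normalizer_iff_cj.mpr hx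
  by_cases hn : Subgroup.normalizer (H : Set X) = ⊤
  · exfalso
    have hnor : H.Normal := Subgroup.normalizer_eq_top_iff.mp hn
    have h1 := frattini S H
    rw [inf_eq_left.mpr c.S_le] at h1
    apply c.hH
    rw [eq_top_iff, ← h1]
    refine sup_le le_rfl ?_
    apply c.alpha Subgroup.le_normalizer
    intro hS
    obtain ⟨g, hg⟩ := exists_le_cj_sylow S hA.pg
    have h2 := hA.conj c.hV0 (c.hU g⁻¹) (c.hU _)
    rw [le_cj_iff] at hg
    exact c.not_normal_of_isQ h2 hg S.2 (Subgroup.normalizer_eq_top_iff.mp hS)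
  · exact c.alpha (c.S_le.trans Subgroup.le_normalizer) hn hxN

/-- an offender lies in only one conjugate of `H` -/
theorem unique (c : Ctx p ρ V0 U S H) {A : Subgroup X} (hA : IsQ p ρ V0 U A) {x : X} (hAH : A ≤ H)
    (hAx : A ≤ cj x H) : x ∈ H := by
  apply c.mem_of_cj_eq hA
  let P : Set (Subgroup X) := {R | IsPGroup p R ∧ A ≤ R ∧ R ≤ H ∧ R ≤ cj x H}
  obtain ⟨R, ⟨a1, a2, a3, a4⟩, hmax⟩ := Set.exists_max_image P (fun q => Nat.card q) (Set.toFinite _)
    ⟨A, hA.pg, le_rfl, hAH, hAx⟩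
  obtain ⟨h, hh, hR⟩ := c.exists_conj_le a1 a3
  have hRe : R = cj h (S : Subgroup X) := by
    by_contra hne
    obtain ⟨R1, b1, b2, b3⟩ := exists_normalizing (cj_isPGroup S.2) (lt_of_le_of_ne hR hne)
    have h1 := hmax R1 ⟨(cj_isPGroup S.2).to_le b2, a2.trans b1.le, b3.trans (c.norm_le hA a2 a1 a3),
      b3.trans (c.norm_le_cj hA a2 a1 a4)⟩
    exact absurd (Subgroup.eq_of_le_of_card_ge b1.le h1) b1.ne
  have h2 : cj x H ≤ cj h H := by
    apply c.alpha' (x := h)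
    · rw [← hRe]; exact a4
    · intro htop
      apply c.hH
      have := congrArg (cj x⁻¹) htop
      rwa [cj_inv_cj, cj_top] at this
  rw [cj_of_mem hh] at h2
  exact cj_le_self_eq h2

theorem unique' (c : Ctx p ρ V0 U S H) {A : Subgroup X} (hA : IsQ p ρ V0 U A) {x y : X} (hAx : A ≤ cj x H)
    (hAy : A ≤ cj y H) : cj x H = cj y H := by
  have h1 := c.unique (hA.conj c.hV0 (c.hU x⁻¹) (c.hU _)) (x := x⁻¹ * y) (by rwa [← le_cj_iff])
    (by rw [le_cj_iff, ← cj_mul, mul_inv_rev, inv_inv, mul_assoc, mul_inv_cancel, mul_one, ← le_cj_iff]; exact hAy)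
  have h2 := cj_of_mem h1
  have h3 := congrArg (cj x) h2
  rw [← cj_mul, ← mul_assoc, mul_inv_cancel, one_mul] at h3
  exact h3.symm

/-- proper subgroups containing an offender lie in a conjugate of `H` -/
theorem proper_le (c : Ctx p ρ V0 U S H) {A L : Subgroup X} (hA : IsQ p ρ V0 U A) (hAL : A ≤ L) (hL : L ≠ ⊤) :
    ∃ x, L ≤ cj x H := by
  by_contra hcon
  push Not at hcon
  let P : Set (Subgroup X) := {L | (∃ A ≤ L, IsQ p ρ V0 U A) ∧ ∀ x, ¬ L ≤ cj x H}
  obtain ⟨L0, ⟨⟨A0, a1, a2⟩, a3⟩, hmin⟩ := Set.exists_min_image P (fun q => Nat.card q) (Set.toFinite _)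
    ⟨L, ⟨A, hAL, hA⟩, hcon⟩
  have hL0 : Nat.card L0 < Nat.card X := lt_of_le_of_lt (hmin L ⟨⟨A, hAL, hA⟩, hcon⟩) (card_lt hL)
  -- a maximal `p`-subgroup `T` with an offender, inside `S`
  obtain ⟨g, hg⟩ := exists_le_cj_sylow S a2.pg
  have hgH : cj g⁻¹ A0 ≤ H := (le_cj_iff.mp hg).trans c.S_le
  let Q : Set (Subgroup X) := {T | IsPGroup p T ∧ cj g⁻¹ A0 ≤ T ∧ T ≤ H ∧ T ≤ cj g⁻¹ L0}
  obtain ⟨T0, ⟨b1, b2, b3, b4⟩, hmax⟩ := Set.exists_max_image Q (fun q => Nat.card q) (Set.toFinite _)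
    ⟨cj g⁻¹ A0, cj_isPGroup a2.pg, le_rfl, hgH, cj_mono _ a1⟩
  have hQ0 := a2.conj c.hV0 (c.hU g⁻¹) (c.hU _)
  have hT0N := c.norm_le hQ0 b2 b1 b3
  have hT0syl : IsSylIn p T0 (cj g⁻¹ L0) := by
    refine ⟨b4, b1, fun T' f1 f2 f3 => ?_⟩
    by_contra hc
    obtain ⟨T3, g1, g2, g3⟩ := exists_normalizing f1 (lt_of_le_of_ne f2 (fun e => hc e.ge))
    have := hmax T3 ⟨f1.to_le g2, b2.trans g1.le, g3.trans hT0N, g2.trans f3⟩
    exact absurd (Subgroup.eq_of_le_of_card_ge g1.le this) g1.ne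
  obtain ⟨h, hh, hT0S⟩ := c.exists_conj_le b1 b3
  obtain ⟨A1, T1, L1, d1, d2, d3, d4, d5, d6, d7⟩ : ∃ A1 T1 L1 : Subgroup X, IsQ p ρ V0 U A1 ∧ A1 ≤ T1 ∧
      T1 ≤ (S : Subgroup X) ∧ IsSylIn p T1 L1 ∧ (∀ x, ¬ L1 ≤ cj x H) ∧
      (∀ q ∈ P, Nat.card L1 ≤ Nat.card q) ∧ Nat.card L1 < Nat.card X := by
    refine ⟨cj h⁻¹ (cj g⁻¹ A0), cj h⁻¹ T0, cj h⁻¹ (cj g⁻¹ L0), hQ0.conj c.hV0 (c.hU _) (c.hU _), cj_mono _ b2, ?_,
      hT0syl.cj _, ?_, ?_, ?_⟩
    · rwa [← le_cj_iff]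
    · intro x hx
      rw [← cj_mul] at hx
      have := cj_le_iff.mp hx
      rw [← cj_mul] at this
      exact a3 _ this
    · intro q hq
      rw [card_cj, card_cj]
      exact hmin q hq
    · rw [card_cj, card_cj]; exact hL0
  have hT1p : IsPGroup p T1 := d4.2.1
  have hT1H : T1 ≤ H := d3.trans c.S_le
  have hL1ne : L1 ≠ ⊤ := by
    rintro rfl
    rw [Nat.card_congr (Subgroup.topEquiv (G := X)).toEquiv] at d7
    exact lt_irrefl _ d7
  -- the largest normal `p`-subgroup of `L1`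
  let O : Subgroup X := ⨅ l : L1, cj (l : X) T1
  have hOT : O ≤ T1 := (iInf_le _ (1 : L1)).trans (by rw [Subgroup.coe_one, cj_one])
  have hOn : ∀ l ∈ L1, cj l O = O := by
    intro l hl
    have key : ∀ l ∈ L1, O ≤ cj l O := by
      intro l hl
      rw [le_cj_iff]
      apply le_iInf
      intro m
      rw [cj_le_iff, inv_inv, ← cj_mul]
      exact iInf_le (fun l : L1 => cj (l : X) T1) ⟨l * m, L1.mul_mem hl m.2⟩
    apply le_antisymm _ (key l hl)
    rw [cj_le_iff]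
    exact key _ (L1.inv_mem hl)
  have hOmax : ∀ R : Subgroup X, IsPGroup p R → R ≤ L1 → (∀ l ∈ L1, cj l R = R) → R ≤ O := by
    intro R hR hRL hRn
    obtain ⟨k, hk, hle⟩ := d4.exists_le hR hRL
    apply le_iInf
    intro l
    have h1 := cj_mono ((l : X) * k⁻¹) hle
    rw [hRn _ (L1.mul_mem l.2 (L1.inv_mem hk)), ← cj_mul, inv_mul_cancel_right] at h1
    exact h1
  set U' := fix ρ V0 U O with hU'
  have hU'inv : ∀ x ∈ L1, ∀ v ∈ U', ρ x v ∈ U' := by
    intro x hx v hv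
    have := conj_mem_fix c.hV0 (c.hU x) hv
    rwa [hOn x hx] at this
  have hfixT : fix ρ V0 U' T1 = fix ρ V0 U T1 := by
    apply le_antisymm
    · intro v hv; exact ⟨hv.1.1, hv.2⟩
    · intro v hv; exact ⟨fix_anti hOT hv, hv.2⟩
  apply d5 1
  rw [cj_one]
  apply c.ih L1 T1 U' d4 (le_fix c.hV0 c.h0U _) (fix_le _) hU'inv
  · have := Subgroup.card_le_of_le (fix_le (ρ := ρ) (V0 := V0) (U := U) O)
    rw [← hU'] at this
    omega
  · intro x _ hx
    rw [hfixT] at hx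
    exact c.hC x fun v hv => hx v (fix_anti d3 hv)
  · intro x hxL hx
    by_cases hall : L1 ≤ Subgroup.normalizer (JJ p ρ V0 U' T1 : Set X)
    · exfalso
      have hJO : JJ p ρ V0 U' T1 ≤ O := by
        apply hOmax _ (hT1p.to_le (JJ_le _)) ((JJ_le _).trans d4.1)
        intro l hl
        exact mem_normalizer_iff_cj.mp (hall hl)
      have hno : ∀ v ∈ U', ∀ a ∈ A1, ρ a v * v⁻¹ ∈ V0 := by
        by_contra hc
        push Not at hc
        have hq := d1.restrict (fix_le O) hc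
        obtain ⟨v, hv, a, ha, hav⟩ := hc
        exact hav (hv.2 a (hJO (le_JJ d2 hq ha)))
      have hsub : ∀ l ∈ L1, A1 ≤ cj l H := by
        intro l hl a ha
        rw [mem_cj]
        apply c.hC
        intro v hv
        have hvU' : v ∈ U' := fix_anti (hOT.trans d3) hv
        have h1 := hno (ρ l v) (hU'inv l hl v hvU') a ha
        have h2 := c.hV0 l⁻¹ _ h1
        rw [map_mul, map_inv (ρ l⁻¹), rho_inv_self, ← rho_mul, ← rho_mul] at h2
        exact h2
      apply d5 1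
      rw [cj_one]
      intro l hl
      exact c.unique d1 (d2.trans hT1H) (hsub l hl)
    · have hlt : Nat.card ↥(L1 ⊓ Subgroup.normalizer (JJ p ρ V0 U' T1 : Set X)) < Nat.card L1 := by
        rcases (Subgroup.card_le_of_le (inf_le_left : L1 ⊓ Subgroup.normalizer (JJ p ρ V0 U' T1 : Set X) ≤ L1)).lt_or_eq with h | h
        · exact h
        · exfalso
          apply hall
          have := Subgroup.eq_of_le_of_card_ge inf_le_left h.ge
          exact inf_eq_left.mp this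
      have hTN : T1 ≤ L1 ⊓ Subgroup.normalizer (JJ p ρ V0 U' T1 : Set X) := by
        refine le_inf d4.1 (fun t ht => ?_)
        exact mem_normalizer_JJ c.hV0 (hU'inv t (d4.1 ht)) (hU'inv _ (L1.inv_mem (d4.1 ht)))
          (Subgroup.le_normalizer ht)
      have hex : ∃ y, L1 ⊓ Subgroup.normalizer (JJ p ρ V0 U' T1 : Set X) ≤ cj y H := by
        by_contra hc
        push Not at hc
        have := d6 _ (show _ ∈ P from ⟨⟨A1, d2.trans hTN, d1⟩, hc⟩)
        omega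
      obtain ⟨y, hy⟩ := hex
      have hyH := c.unique d1 (d2.trans hT1H) ((d2.trans hTN).trans hy)
      rw [cj_of_mem hyH] at hy
      exact hy ⟨hxL, hx⟩

end Ctx

end Cfsg.Agent.NoFF
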