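import Cfsg.Agent.NoFF.Core2
set_option autoImplicit false
set_option linter.unusedSectionVars false

/-!
# The minimal situation: the contradiction
-/

namespace Cfsg.Agent.NoFF

universe u v

variable {X : Type u} [Group X] [Finite X] {V : Type v} [CommGroup V] [Finite V] {p : ℕ} [hp : Fact p.Prime]

theorem comm4 {V : Type*} [CommGroup V] (A B C w : V) :
    (A * w⁻¹)⁻¹ * ((B * w⁻¹) * (C * w⁻¹)) = (A * B⁻¹ * (C * w⁻¹)⁻¹)⁻¹ := by
  have h : ∀ A B C w : Additive V, -(A + -w) + ((B + -w) + (C + -w)) = -((A + -B) + -(C + -w)) :=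
    fun _ _ _ _ => by abel
  exact congrArg Additive.toMul (h (.ofMul A) (.ofMul B) (.ofMul C) (.ofMul w))

/-- if the commutators with `w` are fixed modulo `V₀` then `g ↦ [g, w]` is a homomorphism modulo `V₀` -/
def commHom (ρ : X →* MulAut V) (V0 : Subgroup V) (w : V) (A : Subgroup X)
    (h : ∀ a ∈ A, ∀ b ∈ A, ρ a (ρ b w * w⁻¹) * (ρ b w * w⁻¹)⁻¹ ∈ V0) : A →* V ⧸ V0 :=
  MonoidHom.mk' (fun g => QuotientGroup.mk (ρ g w * w⁻¹)) (by
    intro g k
    rw [← QuotientGroup.mk_mul, QuotientGroup.eq]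
    have h1 := h g g.2 k k.2
    have h2 : (ρ ((g * k : A) : X) w * w⁻¹)⁻¹ * ((ρ (g : X) w * w⁻¹) * (ρ (k : X) w * w⁻¹)) =
        (ρ g (ρ k w * w⁻¹) * (ρ k w * w⁻¹)⁻¹)⁻¹ := by
      rw [Subgroup.coe_mul, rho_mul, map_mul, map_inv (ρ (g : X)), comm4]
    rw [h2]
    exact V0.inv_mem h1)

theorem commHom_apply (ρ : X →* MulAut V) (V0 : Subgroup V) (w : V) (A : Subgroup X)
    (h : ∀ a ∈ A, ∀ b ∈ A, ρ a (ρ b w * w⁻¹) * (ρ b w * w⁻¹)⁻¹ ∈ V0) (g : A) :
    commHom ρ V0 w A h g = QuotientGroup.mk (ρ g w * w⁻¹) := rfl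

/-- the stabiliser of a subgroup -/
def stabU (ρ : X →* MulAut V) (W : Subgroup V) : Subgroup X where
  carrier := {x | (∀ v ∈ W, ρ x v ∈ W) ∧ ∀ v ∈ W, ρ x⁻¹ v ∈ W}
  mul_mem' := by
    rintro x y ⟨h1, h2⟩ ⟨h3, h4⟩
    refine ⟨fun v hv => ?_, fun v hv => ?_⟩
    · rw [rho_mul]; exact h1 _ (h3 v hv)
    · rw [mul_inv_rev, rho_mul]; exact h4 _ (h2 v hv)
  one_mem' := ⟨fun v hv => by simpa using hv, fun v hv => by simpa using hv⟩
  inv_mem' := by
    rintro x ⟨h1, h2⟩
    exact ⟨h2, by rwa [inv_inv]⟩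

namespace Ctx

variable {ρ : X →* MulAut V} {V0 U : Subgroup V} {S : Sylow p X} {H : Subgroup X}

theorem gen (c : Ctx p ρ V0 U S H) {A : Subgroup X} (hA : IsQ p ρ V0 U A) (hAH : A ≤ H) {x : X} (hx : x ∉ H) :
    A ⊔ cj x A = ⊤ := by
  by_contra hne
  obtain ⟨y, hy⟩ := c.proper_le hA le_sup_left hne
  have h1 := c.unique hA hAH (le_sup_left.trans hy)
  rw [cj_of_mem h1] at hy
  exact hx (c.unique (hA.conj c.hV0 (c.hU x) (c.hU _)) (le_sup_right.trans hy) (cj_mono x hAH))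

/-- `[a, w] ∈ V₀` for `a ∈ A` implies the same for the conjugates of `a`, when `[X, w]` is central modulo `V₀`. -/
theorem fix_fix_aux {x : X} {w : V}
    (hw : w ∈ fix ρ (fix ρ V0 U ⊤) U (⊤ : Subgroup X)) {a : X} (ha : ρ a w * w⁻¹ ∈ V0) :
    ρ (x * a * x⁻¹) w * w⁻¹ ∈ V0 := by
  let φ := commHom ρ V0 w ⊤ (fun a _ b _ => (hw.2 b trivial).2 a trivial)
  have hφ : ∀ g : (⊤ : Subgroup X), φ g = 1 ↔ ρ g w * w⁻¹ ∈ V0 := fun g => QuotientGroup.eq_one_iff _
  have := (hφ (⟨x, trivial⟩ * ⟨a, trivial⟩ * ⟨x, trivial⟩⁻¹)).mp (by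
    rw [map_mul, map_mul, (hφ ⟨a, trivial⟩).mpr ha, mul_one, map_inv, mul_inv_cancel])
  exact this

theorem false_of_isQ (c : Ctx p ρ V0 U S H) {A : Subgroup X} (hA : IsQ p ρ V0 U A) (hAS : A ≤ (S : Subgroup X)) :
    False := by
  classical
  have hAH : A ≤ H := hAS.trans c.S_le
  have hV0 := c.hV0
  set F0 : Subgroup V := fix ρ V0 U (⊤ : Subgroup X) with hF0
  set W : Subgroup V := fix ρ V0 U A with hW
  have h0F : V0 ≤ F0 := le_fix c.hV0 c.h0U _
  have hF0U : F0 ≤ U := fix_le _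
  have hF0W : F0 ≤ W := fix_anti le_top
  have hF0inv : ∀ x, ∀ v ∈ F0, ρ x v ∈ F0 := by
    intro x v hv
    have h1 := hv.2 x trivial
    have : ρ x v = (ρ x v * v⁻¹) * v := by group
    rw [this]
    exact F0.mul_mem (h0F h1) hv
  let W' : X → Subgroup V := fun x => fix ρ V0 U (cj x A)
  have hcardW' : ∀ x, Nat.card (W' x) = Nat.card W := fun x => card_fix_cj c.hV0 (c.hU x) (c.hU _) A
  have hinf : ∀ x ∉ H, W ⊓ W' x = F0 := by
    intro x hx
    rw [hW, ← fix_sup c.hV0, c.gen hA hAH hx]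
  -- commutators
  have hquad : ∀ v ∈ U, ∀ a ∈ A, ρ a v * v⁻¹ ∈ W := by
    intro v hv a ha
    exact ⟨U.mul_mem (c.hU a v hv) (U.inv_mem hv), fun b hb => hA.quad v hv a ha b hb⟩
  have hquad' : ∀ x, ∀ v ∈ U, ∀ a ∈ cj x A, ρ a v * v⁻¹ ∈ W' x := by
    intro x v hv a ha
    exact ⟨U.mul_mem (c.hU a v hv) (U.inv_mem hv),
      fun b hb => (hA.conj c.hV0 (c.hU x) (c.hU _)).quad v hv a ha b hb⟩
  have hsup : ∀ x ∉ H, W ⊔ W' x = U := by
    intro x hx
    apply le_antisymm (sup_le (fix_le _) (fix_le _))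
    have hst : stabU ρ (W ⊔ W' x) = ⊤ := by
      rw [eq_top_iff, ← c.gen hA hAH hx]
      apply sup_le
      · intro a ha
        have key : ∀ a ∈ A, ∀ v ∈ W ⊔ W' x, ρ a v ∈ W ⊔ W' x := by
          intro a ha v hv
          have hvU : v ∈ U := (sup_le (fix_le _) (fix_le _) : W ⊔ W' x ≤ U) hv
          have : ρ a v = (ρ a v * v⁻¹) * v := by group
          rw [this]
          exact Subgroup.mul_mem _ ((le_sup_left : W ≤ W ⊔ W' x) (hquad v hvU a ha)) hv
        exact ⟨key a ha, key _ (A.inv_mem ha)⟩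
      · intro a ha
        have key : ∀ a ∈ cj x A, ∀ v ∈ W ⊔ W' x, ρ a v ∈ W ⊔ W' x := by
          intro a ha v hv
          have hvU : v ∈ U := (sup_le (fix_le _) (fix_le _) : W ⊔ W' x ≤ U) hv
          have : ρ a v = (ρ a v * v⁻¹) * v := by group
          rw [this]
          exact Subgroup.mul_mem _ ((le_sup_right : W' x ≤ W ⊔ W' x) (hquad' x v hvU a ha)) hv
        exact ⟨key a ha, key _ ((cj x A).inv_mem ha)⟩
    have hinv : ∀ y, ∀ v ∈ W ⊔ W' x, ρ y v ∈ W ⊔ W' x := by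
      intro y
      have : y ∈ stabU ρ (W ⊔ W' x) := by rw [hst]; trivial
      exact this.1
    calc U = spanU ρ (fix ρ V0 U (S : Subgroup X)) := c.span_eq.symm
      _ ≤ W ⊔ W' x := spanU_le ρ hinv ((fix_anti hAS).trans le_sup_left)
  have hcard : ∀ x ∉ H, Nat.card U * Nat.card F0 = Nat.card W * Nat.card W := by
    intro x hx
    have h1 := card_sup_mul_card_inf W (W' x)
    rwa [hsup x hx, hinf x hx, hcardW' x] at h1
  obtain ⟨x0, hx0⟩ : ∃ x, x ∉ H := by
    by_contra hcon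
    push Not at hcon
    exact c.hH (eq_top_iff.mpr fun x _ => hcon x)
  -- the fixed points modulo `F₀`
  have hFF : fix ρ F0 U (⊤ : Subgroup X) = F0 := by
    apply le_antisymm _ (le_fix hF0inv hF0U _)
    intro v hv
    have hvU : v ∈ W ⊔ W' x0 := by rw [hsup x0 hx0]; exact hv.1
    obtain ⟨w, hw, w', hw', rfl⟩ := Subgroup.mem_sup.mp hvU
    have hsplit : ∀ g : X, ρ g (w * w') * (w * w')⁻¹ = (ρ g w * w⁻¹) * (ρ g w' * w'⁻¹) := by
      intro g
      rw [map_mul, mul_inv]; exact mul_mul_mul_comm _ _ _ _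
    -- `w` is fixed modulo `F₀`
    have hwF : w ∈ fix ρ F0 U (⊤ : Subgroup X) := by
      rw [← c.gen hA hAH hx0, fix_sup hF0inv]
      refine ⟨⟨hw.1, fun a ha => h0F (hw.2 a ha)⟩, ⟨hw.1, fun a ha => ?_⟩⟩
      have h1 := hv.2 a trivial
      rw [hsplit] at h1
      exact (Subgroup.mul_mem_cancel_right _ (h0F (hw'.2 a ha))).mp h1
    have hwF' : w' ∈ fix ρ F0 U (⊤ : Subgroup X) := by
      rw [← c.gen hA hAH hx0, fix_sup hF0inv]
      refine ⟨⟨hw'.1, fun a ha => ?_⟩, ⟨hw'.1, fun a ha => h0F (hw'.2 a ha)⟩⟩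
      have h1 := hv.2 a trivial
      rw [hsplit] at h1
      exact (Subgroup.mul_mem_cancel_left _ (h0F (hw.2 a ha))).mp h1
    apply F0.mul_mem
    · rw [← hinf x0 hx0]
      refine ⟨hw, hw.1, fun a ha => ?_⟩
      rw [mem_cj] at ha
      have h1 := fix_fix_aux (x := x0) hwF (hw.2 _ ha)
      have e : x0 * (x0⁻¹ * a * x0) * x0⁻¹ = a := by group
      rwa [e] at h1
    · rw [← hinf x0 hx0]
      refine ⟨⟨hw'.1, fun a ha => ?_⟩, hw'⟩
      have h1 := fix_fix_aux (x := x0⁻¹) hwF' (hw'.2 _ (conj_mem_cj (x := x0) ha))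
      have e : x0⁻¹ * (x0 * a * x0⁻¹) * x0⁻¹⁻¹ = a := by group
      rwa [e] at h1
  -- fixed points of `A` modulo `F₀`
  have hWF : fix ρ F0 U A = W := by
    have h1 : W ≤ fix ρ F0 U A := fun v hv => ⟨hv.1, fun a ha => h0F (hv.2 a ha)⟩
    refine (Subgroup.eq_of_le_of_card_ge h1 ?_).symm
    have h2 := card_sup_mul_card_inf (fix ρ F0 U A) (fix ρ F0 U (cj x0 A))
    rw [← fix_sup hF0inv, c.gen hA hAH hx0, hFF, card_fix_cj hF0inv (c.hU x0) (c.hU _)] at h2
    have h3 : Nat.card ↥(fix ρ F0 U A ⊔ fix ρ F0 U (cj x0 A)) ≤ Nat.card U :=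
      Subgroup.card_le_of_le (sup_le (fix_le _) (fix_le _))
    have h4 := hcard x0 hx0
    have h5 : Nat.card (fix ρ F0 U A) * Nat.card (fix ρ F0 U A) ≤ Nat.card W * Nat.card W := by
      rw [← h2, ← h4]
      exact Nat.mul_le_mul_right _ h3
    exact Nat.mul_self_le_mul_self_iff.mp h5
  -- elements of `A`
  have hel : ∀ a ∈ A, (∀ v ∈ U, ρ a v * v⁻¹ ∈ V0) ∨ fix ρ F0 U (Subgroup.zpowers a) = W := by
    intro a ha
    by_cases hall : ∀ y, y * a * y⁻¹ ∈ H
    · left
      let N := Subgroup.normalClosure ({a} : Set X)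
      have hNH : N ≤ H := by
        apply (Subgroup.closure_le _).mpr
        intro g hg
        rw [Group.mem_conjugatesOfSet_iff] at hg
        obtain ⟨b, hb, hbg⟩ := hg
        rw [Set.mem_singleton_iff] at hb
        subst hb
        obtain ⟨y, hy⟩ := isConj_iff.mp hbg
        rw [← hy]; exact hall y
      have hN : N.Normal := Subgroup.normalClosure_normal
      have haN : a ∈ N := Subgroup.subset_normalClosure rfl
      have h1 := frattini S N
      have h2 : Subgroup.normalizer (((S : Subgroup X) ⊓ N : Subgroup X) : Set X) = ⊤ := by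
        by_contra hne
        apply c.hH
        rw [eq_top_iff, ← h1]
        refine sup_le hNH (c.alpha ?_ hne)
        intro s hs
        rw [mem_normalizer_iff_cj, cj_inf, cj_of_mem hs]
        congr 1
        ext g
        rw [mem_cj]
        constructor
        · intro hg
          have := hN.conj_mem _ hg s
          have e : s * (s⁻¹ * g * s) * s⁻¹ = g := by group
          rwa [e] at this
        · intro hg
          have := hN.conj_mem g hg s⁻¹
          simpa using this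
      exact c.triv_normal (Subgroup.normalizer_eq_top_iff.mp h2) (S.2.to_le inf_le_left) ⟨hAS ha, haN⟩
    · right
      push Not at hall
      obtain ⟨y, hy⟩ := hall
      have h1 : W ≤ fix ρ F0 U (Subgroup.zpowers a) := by
        rw [← hWF]
        exact fix_anti (by rwa [Subgroup.zpowers_le])
      refine (Subgroup.eq_of_le_of_card_ge h1 ?_).symm
      have h2 : cj y (Subgroup.zpowers a) = Subgroup.zpowers (y * a * y⁻¹) := by
        unfold cj
        rw [MonoidHom.map_zpowers]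
        rfl
      have h3 := card_sup_mul_card_inf (fix ρ F0 U (Subgroup.zpowers (y * a * y⁻¹))) W
      have h4 : fix ρ F0 U (Subgroup.zpowers (y * a * y⁻¹)) ⊓ W = F0 := by
        apply le_antisymm
        · rw [← hWF, ← fix_sup hF0inv]
          refine (fix_anti ?_).trans hFF.le
          rw [← c.gen hA hAH hy]
          refine sup_le le_sup_right ?_
          intro g hg
          rw [mem_cj] at hg
          have h5 : y * a * y⁻¹ ∈ Subgroup.zpowers (y * a * y⁻¹) ⊔ A :=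
            (le_sup_left : Subgroup.zpowers (y * a * y⁻¹) ≤ _) (Subgroup.mem_zpowers _)
          have h6 := Subgroup.mul_mem _ (Subgroup.mul_mem _ h5 ((le_sup_right : A ≤ _) hg)) (Subgroup.inv_mem _ h5)
          have e : y * a * y⁻¹ * ((y * a * y⁻¹)⁻¹ * g * (y * a * y⁻¹)) * (y * a * y⁻¹)⁻¹ = g := by group
          rwa [e] at h6
        · exact le_inf (le_fix hF0inv hF0U _) hF0W
      rw [h4, ← h2, card_fix_cj hF0inv (c.hU y) (c.hU _)] at h3
      have h5 : Nat.card ↥(fix ρ F0 U (cj y (Subgroup.zpowers a)) ⊔ W) ≤ Nat.card U :=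
        Subgroup.card_le_of_le (sup_le (fix_le _) (fix_le _))
      have h6 := hcard x0 hx0
      have h7 : Nat.card (fix ρ F0 U (Subgroup.zpowers a)) * Nat.card W ≤ Nat.card W * Nat.card W := by
        rw [← h3, ← h6]
        exact Nat.mul_le_mul_right _ h5
      exact Nat.le_of_mul_le_mul_right h7 Nat.card_pos
  -- surjectivity
  have hsurj : ∀ x ∉ H, ∀ u ∈ W' x, u ∉ F0 → ∀ w ∈ W, ∃ a ∈ A, ρ a u * u⁻¹ * w⁻¹ ∈ F0 := by
    intro x hx u hu huF w hw
    let φ := commHom ρ F0 u A (fun a ha b hb => h0F ((hquad u hu.1 b hb).2 a ha))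
    have hφ : ∀ g : A, φ g = 1 ↔ ρ g u * u⁻¹ ∈ F0 := fun g => QuotientGroup.eq_one_iff _
    -- the kernel acts trivially
    have hker : φ.ker.map A.subtype ≤ A ⊓ actKer ρ V0 U c.hV0 := by
      rintro _ ⟨a, ha, rfl⟩
      refine ⟨a.2, ?_⟩
      rcases hel a a.2 with h | h
      · exact h
      · exfalso
        apply huF
        rw [← hinf x hx]
        refine ⟨?_, hu⟩
        rw [← h]
        refine ⟨hu.1, ?_⟩
        have h1 : ρ (a : X) u * u⁻¹ ∈ F0 := (hφ a).mp ha
        have h2 : Subgroup.zpowers (a : X) ≤ actKer ρ F0 (Subgroup.zpowers u) hF0inv := by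
          rw [Subgroup.zpowers_le]
          intro v hv
          obtain ⟨n, rfl⟩ := hv
          simp only
          rw [map_zpow, ← inv_zpow, ← mul_zpow]
          exact F0.zpow_mem h1 n
        exact fun g hg => h2 hg u (Subgroup.mem_zpowers u)
    have h1 : Nat.card φ.range * Nat.card φ.ker = Nat.card A := by
      rw [← Subgroup.index_ker, mul_comm]
      exact Subgroup.card_mul_index _
    have h2 : Nat.card φ.ker ≤ Nat.card ↥(A ⊓ actKer ρ V0 U c.hV0) := by
      have e : Nat.card (φ.ker.map A.subtype) = Nat.card φ.ker := Subgroup.card_map_of_injective A.subtype_injective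
      rw [← e]
      exact Subgroup.card_le_of_le hker
    have h3 := hA.best (A ⊓ actKer ρ V0 U c.hV0) inf_le_left
    have h4 : fix ρ V0 U (A ⊓ actKer ρ V0 U c.hV0) = U :=
      le_antisymm (fix_le _) fun v hv => ⟨hv, fun a ha => ha.2 v hv⟩
    rw [h4, ← hW] at h3
    -- `|range| ≥ |W/F₀|`
    have h5 : Nat.card (W.map (QuotientGroup.mk' F0)) * Nat.card F0 = Nat.card W := by
      have e : F0.subgroupOf W = ((QuotientGroup.mk' F0).comp W.subtype).ker := by
        ext g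
        rw [MonoidHom.mem_ker, Subgroup.mem_subgroupOf]
        exact (QuotientGroup.eq_one_iff _).symm
      have e2 : Nat.card (W.map (QuotientGroup.mk' F0)) = (F0.subgroupOf W).index := by
        rw [e, Subgroup.index_ker, MonoidHom.range_comp, Subgroup.range_subtype]
      have e3 : Nat.card (F0.subgroupOf W) = Nat.card F0 :=
        Nat.card_congr (Subgroup.subgroupOfEquivOfLe hF0W).toEquiv
      rw [e2, ← e3, mul_comm]
      exact Subgroup.card_mul_index _
    have h6 : φ.range ≤ W.map (QuotientGroup.mk' F0) := by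
      rintro _ ⟨a, rfl⟩
      exact ⟨_, hquad u hu.1 a a.2, rfl⟩
    have h7 : W.map (QuotientGroup.mk' F0) = φ.range := by
      refine (Subgroup.eq_of_le_of_card_ge h6 ?_).symm
      have h8 := hcard x0 hx0
      have p1 : 0 < Nat.card F0 := Nat.card_pos
      have p2 : 0 < Nat.card φ.ker := Nat.card_pos
      have p3 : 0 < Nat.card W := Nat.card_pos
      -- `|ker| * |U| ≤ |A| * |W|`
      have h9 : Nat.card φ.ker * Nat.card U ≤ Nat.card φ.range * Nat.card φ.ker * Nat.card W := by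
        rw [h1]
        exact (Nat.mul_le_mul_right _ h2).trans h3
      have h10 : Nat.card U ≤ Nat.card φ.range * Nat.card W := by
        have : Nat.card φ.ker * Nat.card U ≤ Nat.card φ.ker * (Nat.card φ.range * Nat.card W) := by
          calc _ ≤ _ := h9
            _ = _ := by ring
        exact Nat.le_of_mul_le_mul_left this p2
      have h11 : Nat.card (W.map (QuotientGroup.mk' F0)) * (Nat.card W * Nat.card F0) ≤
          Nat.card φ.range * (Nat.card W * Nat.card F0) := by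
        calc _ = Nat.card (W.map (QuotientGroup.mk' F0)) * Nat.card F0 * Nat.card W := by ring
          _ = Nat.card W * Nat.card W := by rw [h5]
          _ = Nat.card U * Nat.card F0 := h8.symm
          _ ≤ Nat.card φ.range * Nat.card W * Nat.card F0 := Nat.mul_le_mul_right _ h10
          _ = _ := by ring
      exact Nat.le_of_mul_le_mul_right h11 (Nat.mul_pos p3 p1)
    have h12 : QuotientGroup.mk' F0 w ∈ φ.range := by
      rw [← h7]; exact ⟨w, hw, rfl⟩
    obtain ⟨a, ha⟩ := h12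
    refine ⟨a, a.2, ?_⟩
    have h13 : (QuotientGroup.mk (ρ (a : X) u * u⁻¹) : V ⧸ F0) = QuotientGroup.mk w := ha
    rw [QuotientGroup.eq] at h13
    have := F0.inv_mem h13
    rw [mul_inv_rev, inv_inv, mul_comm] at this
    exact this
  -- choose `w` and `u`
  have hWne : ¬ W ≤ F0 := by
    intro hle
    have h1 : W = F0 := le_antisymm hle hF0W
    have h2 := hcard x0 hx0
    rw [h1] at h2
    have h3 : Nat.card U = Nat.card F0 := Nat.eq_of_mul_eq_mul_right Nat.card_pos h2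
    have h4 : F0 = U := Subgroup.eq_of_le_of_card_ge hF0U h3.le
    obtain ⟨v, hv, a, ha, hav⟩ := hA.nt
    rw [← h4] at hv
    exact hav (hv.2 a trivial)
  obtain ⟨w, hwW, hwF⟩ : ∃ w ∈ W, w ∉ F0 := by
    by_contra hcon
    push Not at hcon
    exact hWne hcon
  set u := ρ x0 w with hu
  have huW : u ∈ W' x0 := conj_mem_fix c.hV0 (c.hU x0) hwW
  have huF : u ∉ F0 := by
    intro h
    apply hwF
    have := hF0inv x0⁻¹ _ h
    rwa [hu, rho_inv_self] at this
  obtain ⟨a, ha, hau⟩ := hsurj x0 hx0 u huW huF w hwW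
  have hx0' : x0⁻¹ ∉ H := fun h => hx0 (by simpa using H.inv_mem h)
  -- `w₁ = x₀⁻¹ w`
  have hw1 : ρ x0⁻¹ w ∈ W' x0⁻¹ := conj_mem_fix c.hV0 (c.hU _) hwW
  have hw1F : ρ x0⁻¹ w ∉ F0 := by
    intro h
    apply hwF
    have := hF0inv x0 _ h
    rwa [rho_self_inv] at this
  obtain ⟨a', ha', hau'⟩ := hsurj x0⁻¹ hx0' _ hw1 hw1F w hwW
  have h1 := hF0inv x0 _ hau'
  have h2 : ρ x0 (ρ a' (ρ x0⁻¹ w) * (ρ x0⁻¹ w)⁻¹ * w⁻¹) = ρ (x0 * a' * x0⁻¹) w * w⁻¹ * u⁻¹ := by
    rw [map_mul, map_mul, map_inv (ρ x0), map_inv (ρ x0), rho_self_inv, ← rho_mul, ← rho_mul, mul_assoc x0]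
  rw [h2] at h1
  have hb : x0 * a' * x0⁻¹ ∈ cj x0 A := conj_mem_cj ha'
  exact huF (c.hNS a (x0 * a' * x0⁻¹) F0 h0F hF0U (fun v hv => hF0inv _ v hv) (fun v hv => hF0inv _ v hv) u huW.1 w
    hwW.1 hau (h0F (hwW.2 a ha)) h1 (h0F (huW.2 _ hb)))

theorem false (c : Ctx p ρ V0 U S H) : False := by
  by_cases h : ∃ A ≤ (S : Subgroup X), IsQ p ρ V0 U A
  · obtain ⟨A, hA, hAQ⟩ := h
    exact c.false_of_isQ hAQ hA
  · push Not at h
    apply c.hH
    rw [eq_top_iff]
    refine le_trans ?_ c.hN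
    have : JJ p ρ V0 U (S : Subgroup X) = ⊥ := by
      rw [eq_bot_iff]
      exact sSup_le fun A hA => absurd hA.2 (h A hA.1)
    rw [this]
    intro x _
    rw [mem_normalizer_iff_cj]
    ext g
    rw [mem_cj, Subgroup.mem_bot, Subgroup.mem_bot]
    constructor
    · intro hg
      have : g = x * (x⁻¹ * g * x) * x⁻¹ := by group
      rw [this, hg]; group
    · rintro rfl; group

end Ctx

end Cfsg.Agent.NoFF
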