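import Cfsg.Agent.NoFF.Core3
set_option autoImplicit false
set_option linter.unusedSectionVars false

/-!
# Generation by the stabiliser of the fixed points and the normalizer of `J(S)`
-/

namespace Cfsg.Agent.NoFF

universe u v

variable {X : Type u} [Group X] {V : Type v} [CommGroup V] {p : ℕ}

theorem fix_comp (ρ : X →* MulAut V) (V0 U : Subgroup V) (K : Subgroup X) (B : Subgroup K) :
    fix (ρ.comp K.subtype) V0 U B = fix ρ V0 U (B.map K.subtype) := by
  ext v
  constructor
  · rintro ⟨h1, h2⟩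
    refine ⟨h1, ?_⟩
    rintro _ ⟨b, hb, rfl⟩
    exact h2 b hb
  · rintro ⟨h1, h2⟩
    exact ⟨h1, fun b hb => h2 b ⟨b, hb, rfl⟩⟩

theorem isQ_comp (ρ : X →* MulAut V) (V0 U : Subgroup V) (K : Subgroup X) (A : Subgroup K) :
    IsQ p (ρ.comp K.subtype) V0 U A ↔ IsQ p ρ V0 U (A.map K.subtype) := by
  have hc : ∀ B : Subgroup K, Nat.card (B.map K.subtype) = Nat.card B := fun B =>
    Subgroup.card_map_of_injective K.subtype_injective
  constructor
  · rintro ⟨h1, h2, h3, h4⟩
    refine ⟨h1.map _, ?_, ?_, ?_⟩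
    · rintro v hv _ ⟨a, ha, rfl⟩ _ ⟨b, hb, rfl⟩
      exact h2 v hv a ha b hb
    · intro B hB
      have hBK : B ≤ K := hB.trans (Subgroup.map_subtype_le A)
      have e : (B.subgroupOf K).map K.subtype = B := by
        rw [Subgroup.subgroupOf_map_subtype, inf_eq_left.mpr hBK]
      have h5 := h3 (B.subgroupOf K) (by
        intro b hb
        rw [Subgroup.mem_subgroupOf] at hb
        obtain ⟨a, ha, hab⟩ := hB hb
        have : a = b := K.subtype_injective hab
        rwa [← this])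
      rw [fix_comp, e, ← hc (B.subgroupOf K), e, fix_comp, ← hc A] at h5
      exact h5
    · obtain ⟨v, hv, a, ha, hav⟩ := h4
      exact ⟨v, hv, a, ⟨a, ha, rfl⟩, hav⟩
  · rintro ⟨h1, h2, h3, h4⟩
    refine ⟨?_, ?_, ?_, ?_⟩
    · have := h1.comap_subtype (K := K)
      rwa [Subgroup.comap_map_eq_self_of_injective K.subtype_injective] at this
    · intro v hv a ha b hb
      exact h2 v hv a ⟨a, ha, rfl⟩ b ⟨b, hb, rfl⟩
    · intro B hB
      have h5 := h3 (B.map K.subtype) (Subgroup.map_mono hB)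
      rwa [hc, hc, ← fix_comp, ← fix_comp] at h5
    · obtain ⟨v, hv, _, ⟨a, ha, rfl⟩, hav⟩ := h4
      exact ⟨v, hv, a, ha, hav⟩

theorem JJ_comp (ρ : X →* MulAut V) (V0 U : Subgroup V) (K : Subgroup X) (B : Subgroup K) :
    (JJ p (ρ.comp K.subtype) V0 U B).map K.subtype = JJ p ρ V0 U (B.map K.subtype) := by
  unfold JJ
  rw [sSup_eq_iSup, Subgroup.map_iSup]
  simp only [Subgroup.map_iSup]
  apply le_antisymm
  · apply iSup_le
    intro A
    apply iSup_le
    rintro ⟨h1, h2⟩
    exact le_sSup ⟨Subgroup.map_mono h1, (isQ_comp ρ V0 U K A).mp h2⟩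
  · apply sSup_le
    rintro A ⟨h1, h2⟩
    have hAK : A ≤ K := h1.trans (Subgroup.map_subtype_le B)
    have e : (A.subgroupOf K).map K.subtype = A := by
      rw [Subgroup.subgroupOf_map_subtype, inf_eq_left.mpr hAK]
    have h3 : A.subgroupOf K ≤ B := by
      intro b hb
      rw [Subgroup.mem_subgroupOf] at hb
      obtain ⟨a, ha, hab⟩ := h1 hb
      have : a = b := K.subtype_injective hab
      rwa [← this]
    have h4 : IsQ p (ρ.comp K.subtype) V0 U (A.subgroupOf K) := by rw [isQ_comp, e]; exact h2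
    refine le_trans e.ge ?_
    exact le_iSup_of_le (A.subgroupOf K) (le_iSup_of_le ⟨h3, h4⟩ le_rfl)

theorem mem_normalizer_map {K : Subgroup X} {B : Subgroup K} {x : X} (hx : x ∈ K)
    (h : x ∈ Subgroup.normalizer (B.map K.subtype : Set X)) :
    (⟨x, hx⟩ : K) ∈ Subgroup.normalizer (B : Set K) := by
  rw [Subgroup.mem_normalizer_iff] at h ⊢
  intro g
  have h1 := h g
  have e : ∀ k : K, (k : X) ∈ B.map K.subtype ↔ k ∈ B := by
    intro k
    constructor
    · rintro ⟨b, hb, hbk⟩
      have : b = k := K.subtype_injective hbk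
      rwa [← this]
    · intro hk; exact ⟨k, hk, rfl⟩
  rw [← e, ← e]
  exact h1

theorem mem_normalizer_map' {K : Subgroup X} {B : Subgroup K} {x : K}
    (h : x ∈ Subgroup.normalizer (B : Set K)) :
    (x : X) ∈ Subgroup.normalizer (B.map K.subtype : Set X) := by
  rw [mem_normalizer_iff_cj] at h ⊢
  have e : cj (x : X) (B.map K.subtype) = (cj x B).map K.subtype := by
    unfold cj
    rw [Subgroup.map_map, Subgroup.map_map]
    rfl
  rw [e, h]

variable [Finite V] [hp : Fact p.Prime]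

theorem main_aux : ∀ (n : ℕ) (X : Type u) [Group X] [Finite X] (ρ : X →* MulAut V) (V0 U : Subgroup V)
    (_hV0 : ∀ x, ∀ v ∈ V0, ρ x v ∈ V0) (_hU : ∀ x, ∀ v ∈ U, ρ x v ∈ U) (_h0U : V0 ≤ U) (_hNS : NoS ρ V0 U)
    (S : Sylow p X) (H : Subgroup X)
    (_hC : ∀ x, (∀ v ∈ fix ρ V0 U (S : Subgroup X), ρ x v * v⁻¹ ∈ V0) → x ∈ H)
    (_hN : Subgroup.normalizer (JJ p ρ V0 U (S : Subgroup X) : Set X) ≤ H),
    Nat.card X + Nat.card U ≤ n → H = ⊤
  | 0, X, _, _, _, _, _, _, _, _, _, _, _, _, _, h => by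
    have : 0 < Nat.card X := Nat.card_pos
    omega
  | n + 1, X, _, _, ρ, V0, U, hV0, hU, h0U, hNS, S, H, hC, hN, h => by
    by_contra hH
    refine Ctx.false (p := p) (ρ := ρ) (V0 := V0) (U := U) (S := S) (H := H)
      ⟨hV0, hU, h0U, hNS, hC, hN, hH, ?_⟩
    intro K T U' hT h0U' hU' hinv hlt h1 h2
    have e : (T.subgroupOf K).map K.subtype = T := by
      rw [Subgroup.subgroupOf_map_subtype, inf_eq_left.mpr hT.1]
    have key := main_aux n K (ρ.comp K.subtype) V0 U' (fun x => hV0 x) (fun x => hinv x x.2) h0U'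
      (fun a b D d1 d2 d3 d4 u hu w hw => hNS a b D d1 (d2.trans hU') d3 d4 u (hU' hu) w (hU' hw))
      hT.toSylow (H.subgroupOf K)
      (by
        intro x hx
        rw [hT.toSylow_coe, fix_comp, e] at hx
        exact h1 x x.2 hx)
      (by
        intro x hx
        rw [hT.toSylow_coe] at hx
        have := mem_normalizer_map' hx
        rw [JJ_comp, e] at this
        exact h2 x x.2 this)
      (by omega)
    rwa [Subgroup.subgroupOf_eq_top] at key

/-- **Generation theorem.** Let the finite group `X` act on the section `U / V₀` of a finite abelian group, such that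
no section is a natural `SL₂(p)`-module for a subgroup generated by two root elements.  Then `X` is generated by the
stabiliser of `C_{U/V₀}(S)` and the normalizer of the subgroup generated by the quadratic best offenders in `S`. -/
theorem main {X : Type u} [Group X] [Finite X] (ρ : X →* MulAut V) (V0 U : Subgroup V)
    (hV0 : ∀ x, ∀ v ∈ V0, ρ x v ∈ V0) (hU : ∀ x, ∀ v ∈ U, ρ x v ∈ U) (h0U : V0 ≤ U) (hNS : NoS ρ V0 U)
    (S : Sylow p X) (H : Subgroup X)
    (hC : ∀ x, (∀ v ∈ fix ρ V0 U (S : Subgroup X), ρ x v * v⁻¹ ∈ V0) → x ∈ H)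
    (hN : Subgroup.normalizer (JJ p ρ V0 U (S : Subgroup X) : Set X) ≤ H) : H = ⊤ :=
  main_aux _ X ρ V0 U hV0 hU h0U hNS S H hC hN le_rfl

end Cfsg.Agent.NoFF
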