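import Cfsg.Agent.NoFF.Basic
set_option autoImplicit false

/-!
# Sylow facts for subgroups of an ambient finite group
-/

namespace Cfsg.Agent.NoFF

open scoped Pointwise

variable {X : Type*} [Group X] [Finite X] {p : ℕ} [hp : Fact p.Prime]

/-- `T` is a maximal `p`-subgroup of `K` -/
def IsSylIn {X : Type*} [Group X] (p : ℕ) (T K : Subgroup X) : Prop :=
  T ≤ K ∧ IsPGroup p T ∧ ∀ T' : Subgroup X, IsPGroup p T' → T ≤ T' → T' ≤ K → T' ≤ T

theorem isPGroup_subgroupOf {X : Type*} [Group X] {p : ℕ} {T : Subgroup X} (h : IsPGroup p T) (K : Subgroup X) :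
    IsPGroup p (T.subgroupOf K) := h.comap_subtype

/-- the Sylow subgroup of `↥K` given by `T` -/
def IsSylIn.toSylow {X : Type*} [Group X] {p : ℕ} {T K : Subgroup X} (h : IsSylIn p T K) : Sylow p K where
  toSubgroup := T.subgroupOf K
  isPGroup' := isPGroup_subgroupOf h.2.1 K
  is_maximal' := by
    intro Q hQ hTQ
    apply le_antisymm _ hTQ
    have h1 : Q.map K.subtype ≤ T := by
      apply h.2.2 _ (hQ.map _) _ (Subgroup.map_subtype_le Q)
      intro t ht
      exact ⟨⟨t, h.1 ht⟩, hTQ (by rw [Subgroup.mem_subgroupOf]; exact ht), rfl⟩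
    intro q hq
    rw [Subgroup.mem_subgroupOf]
    exact h1 ⟨q, hq, rfl⟩

theorem IsSylIn.toSylow_coe {X : Type*} [Group X] {p : ℕ} {T K : Subgroup X} (h : IsSylIn p T K) :
    (h.toSylow : Subgroup K) = T.subgroupOf K := rfl

theorem smul_eq_cj {X : Type*} [Group X] (x : X) (A : Subgroup X) : MulAut.conj x • A = cj x A := rfl

/-- every `p`-subgroup of `K` is in a `K`-conjugate of `T` -/
theorem IsSylIn.exists_le {T K R : Subgroup X} (h : IsSylIn p T K) (hR : IsPGroup p R) (hRK : R ≤ K) :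
    ∃ k ∈ K, R ≤ cj k T := by
  obtain ⟨Q, hQ⟩ := (isPGroup_subgroupOf hR K).exists_le_sylow
  obtain ⟨k, hk⟩ := MulAction.exists_smul_eq K h.toSylow Q
  refine ⟨k, k.2, ?_⟩
  intro r hr
  have h1 : (⟨r, hRK hr⟩ : K) ∈ (Q : Subgroup K) := hQ (by rw [Subgroup.mem_subgroupOf]; exact hr)
  rw [← hk, Sylow.coe_subgroup_smul, smul_eq_cj, mem_cj, h.toSylow_coe, Subgroup.mem_subgroupOf] at h1
  rw [mem_cj]
  exact h1

theorem IsSylIn.conj {T T' K : Subgroup X} (h : IsSylIn p T K) (h' : IsSylIn p T' K) : ∃ k ∈ K, T' = cj k T := by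
  obtain ⟨k, hk, hle⟩ := h.exists_le h'.2.1 h'.1
  refine ⟨k, hk, le_antisymm hle ?_⟩
  apply h'.2.2 _ (cj_isPGroup h.2.1) hle
  intro x hx
  rw [mem_cj] at hx
  have := K.mul_mem (K.mul_mem hk (h.1 hx)) (K.inv_mem hk)
  have e : k * (k⁻¹ * x * k) * k⁻¹ = x := by group
  rwa [e] at this

omit [Finite X] hp in
theorem isSylIn_top (S : Sylow p X) : IsSylIn p (S : Subgroup X) ⊤ :=
  ⟨le_top, S.2, fun T' h1 h2 _ => le_of_eq (S.is_maximal' h1 h2)⟩

omit [Finite X] hp in
theorem IsSylIn.mono {T K K' : Subgroup X} (h : IsSylIn p T K) (hT : T ≤ K') (hK : K' ≤ K) : IsSylIn p T K' :=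
  ⟨hT, h.2.1, fun T' h1 h2 h3 => h.2.2 T' h1 h2 (h3.trans hK)⟩

omit [Finite X] hp in
theorem IsSylIn.cj {T K : Subgroup X} (h : IsSylIn p T K) (x : X) : IsSylIn p (cj x T) (cj x K) := by
  refine ⟨cj_mono x h.1, cj_isPGroup h.2.1, fun T' h1 h2 h3 => ?_⟩
  have := h.2.2 (NoFF.cj x⁻¹ T') (cj_isPGroup h1) (by rwa [← cj_le_cj (x := x), cj_cj_inv])
    (by rwa [← cj_le_cj (x := x), cj_cj_inv])
  rwa [← cj_le_cj (x := x), cj_cj_inv] at this

theorem exists_le_cj_sylow (S : Sylow p X) {R : Subgroup X} (hR : IsPGroup p R) : ∃ x, R ≤ cj x (S : Subgroup X) := by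
  obtain ⟨x, -, h⟩ := (isSylIn_top S).exists_le hR le_top
  exact ⟨x, h⟩

theorem normal_le_sylow (S : Sylow p X) {R : Subgroup X} [hn : R.Normal] (hR : IsPGroup p R) :
    R ≤ (S : Subgroup X) := by
  obtain ⟨x, hx⟩ := exists_le_cj_sylow S hR
  intro r hr
  have h1 := hx (hn.conj_mem r hr x)
  rw [mem_cj] at h1
  have e : x⁻¹ * (x * r * x⁻¹) * x = r := by group
  rwa [e] at h1

theorem isSylIn_inf_normal (S : Sylow p X) (N : Subgroup X) [hN : N.Normal] :
    IsSylIn p ((S : Subgroup X) ⊓ N) N := by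
  refine ⟨inf_le_right, S.2.to_le inf_le_left, ?_⟩
  intro T' hT' hle hTN
  obtain ⟨x, hx⟩ := exists_le_cj_sylow S hT'
  have h1 : T' ≤ cj x ((S : Subgroup X) ⊓ N) := by
    rw [cj_inf]
    refine le_inf hx (fun t ht => ?_)
    rw [mem_cj]
    have := hN.conj_mem t (hTN ht) x⁻¹
    simpa using this
  have h2 : Nat.card T' ≤ Nat.card ↥((S : Subgroup X) ⊓ N) := by
    rw [← card_cj x ((S : Subgroup X) ⊓ N)]
    exact Subgroup.card_le_of_le h1
  exact (Subgroup.eq_of_le_of_card_ge hle h2).symm.le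

/-- Frattini argument -/
theorem frattini (S : Sylow p X) (N : Subgroup X) [hN : N.Normal] :
    N ⊔ Subgroup.normalizer (((S : Subgroup X) ⊓ N : Subgroup X) : Set X) = ⊤ := by
  rw [eq_top_iff]
  intro x _
  have h := isSylIn_inf_normal S N
  have h2 : IsSylIn p (cj x ((S : Subgroup X) ⊓ N)) N := by
    have := h.cj x
    have e : cj x N = N := by
      ext g
      rw [mem_cj]
      constructor
      · intro hg
        have := hN.conj_mem _ hg x
        have e : x * (x⁻¹ * g * x) * x⁻¹ = g := by group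
        rwa [e] at this
      · intro hg
        have := hN.conj_mem g hg x⁻¹
        simpa using this
    rwa [e] at this
  obtain ⟨n, hn, hnx⟩ := h.conj h2
  have h3 : n⁻¹ * x ∈ Subgroup.normalizer (((S : Subgroup X) ⊓ N : Subgroup X) : Set X) := by
    rw [mem_normalizer_iff_cj, cj_mul, hnx, cj_inv_cj]
  have h4 : x = n * (n⁻¹ * x) := by group
  rw [h4]
  exact Subgroup.mul_mem_sup hn h3

/-- normalizers grow in `p`-groups -/
theorem exists_normalizing {T T' : Subgroup X} (hT' : IsPGroup p T') (hlt : T < T') :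
    ∃ T1 : Subgroup X, T < T1 ∧ T1 ≤ T' ∧ T1 ≤ Subgroup.normalizer (T : Set X) := by
  have hnil : Group.IsNilpotent T' := hT'.isNilpotent
  have h1 : T.subgroupOf T' < ⊤ := by
    rw [lt_top_iff_ne_top, Ne, Subgroup.subgroupOf_eq_top]
    exact not_le_of_gt hlt
  have h2 := Group.normalizerCondition_of_isNilpotent (G := T') (T.subgroupOf T') h1
  have h3 : T = (T.subgroupOf T').map T'.subtype := by
    rw [Subgroup.subgroupOf_map_subtype, inf_eq_left.mpr hlt.le]
  refine ⟨(Subgroup.normalizer ((T.subgroupOf T' : Subgroup T') : Set T')).map T'.subtype, ?_, ?_, ?_⟩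
  · conv_lhs => rw [h3]
    exact (Subgroup.map_lt_map_iff_of_injective T'.subtype_injective).mpr h2
  · exact Subgroup.map_subtype_le _
  · rintro _ ⟨x, hx, rfl⟩
    have hx' := (Subgroup.mem_normalizer_iff.mp hx)
    rw [Subgroup.mem_normalizer_iff]
    intro g
    constructor
    · intro hg
      have := (hx' ⟨g, hlt.le hg⟩).mp (by rw [Subgroup.mem_subgroupOf]; exact hg)
      rw [Subgroup.mem_subgroupOf] at this
      exact this
    · intro hg
      have hgT : g ∈ T' := by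
        have h5 := T'.mul_mem (T'.mul_mem (T'.inv_mem x.2) (hlt.le hg)) x.2
        have e : (x : X)⁻¹ * ((T'.subtype x) * g * (T'.subtype x)⁻¹) * (x : X) = g := by
          simp only [Subgroup.coe_subtype]; group
        rwa [e] at h5
      have := (hx' ⟨g, hgT⟩).mpr (by rw [Subgroup.mem_subgroupOf]; exact hg)
      rw [Subgroup.mem_subgroupOf] at this
      exact this

end Cfsg.Agent.NoFF
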